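import Cfsg.Agent.H205.C7.TI
import Cfsg.Agent.H205.EvenTI

/-!
# The final step in characteristic two
-/

set_option autoImplicit false
set_option linter.unusedSectionVars false

namespace Cfsg.Agent.H205.C7

open Matrix Cfsg.Agent.H889 Cfsg.Agent.H872 Cfsg.Agent.H873 Cfsg.Geo
open scoped Kronecker MatrixGroups

universe u

variable {F : Type u} [Field F] {k t : ℕ}

/-- `SL` as a group. -/
abbrev SLk (F : Type u) [Field F] (k : ℕ) := ↥(specialLinear (Fin k) F)

theorem HX.sl (hk : 3 ≤ k) {i : Fin t} {M : Subgroup (GLV F k t)} (h : HX i M) {x : GL (Fin k) F}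
    (hx : x ∈ specialLinear (Fin k) F) : slG i x ∈ M := by
  have : Nontrivial (Fin k) := by
    refine ⟨⟨0, by omega⟩, ⟨1, by omega⟩, ?_⟩
    simp
  have h1 : specialLinear (Fin k) F ≤ M.comap (slG i) := by
    apply specialLinear_le_of_hasTv
    intro p q hpq c
    rw [hasTv_iff]
    have h0 : (Pi.single q 1 : Fin k → F) ⬝ᵥ (c • Pi.single p 1) = 0 := by
      rw [dotProduct_smul]; simp [hpq]
    exact ⟨h0, h _ _ h0⟩
  exact h1 hx

theorem sqrt2 [Finite F] (h2 : (2 : F) = 0) (c : F) : ∃ e, c = e * e := by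
  have : Fintype F := Fintype.ofFinite F
  have : CharP F 2 := CharTwo.of_one_ne_zero_of_two_eq_zero one_ne_zero h2
  exact FiniteField.isSquare_of_char_two (ringChar.eq F 2) c

theorem one_of_sq (h2 : (2 : F) = 0) {c : F} (h : c * c = 1) : c = 1 := by
  have h1 : (c - 1) * (c - 1) = 0 := by
    have : (c - 1) * (c - 1) = c * c + 1 - 2 * c := by ring
    rw [this, h, h2, zero_mul, sub_zero, ← two_mul, h2, zero_mul]
  exact sub_eq_zero.1 (mul_self_eq_zero.1 h1)

/-- Rows fixed by an involution. -/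
theorem inv_conf (hk : 3 ≤ k) (h2 : (2 : F) = 0) {B : Mk F k} (hBB : B * B = 1) (hB1 : B ≠ 1) :
    ∃ x ψ ψ' : Fin k → F, (B - 1) *ᵥ x ≠ 0 ∧ ψ ≠ 0 ∧ ψ' ≠ 0 ∧ ψ + ψ' ≠ 0 ∧ ψ ᵥ* (B - 1) = 0 ∧ ψ' ᵥ* (B - 1) = 0 := by
  have hadd : ∀ X : Mk F k, X + X = 0 := fun X => by rw [← two_smul F, h2, zero_smul]
  have hsq : (B - 1) * (B - 1) = 0 := by
    have : (B - 1) * (B - 1) = B * B + 1 - (B + B) := by noncomm_ring
    rw [this, hBB, hadd, hadd, sub_zero]
  obtain ⟨x, hx⟩ : ∃ x, (B - 1) *ᵥ x ≠ 0 := by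
    by_contra hcon
    push Not at hcon
    apply hB1
    have : B - 1 = 0 := Matrix.mulVec_injective (funext fun v => by rw [hcon, zero_mulVec])
    exact sub_eq_zero.1 this
  let D := (B - 1).vecMulLinear
  have hD : ∀ v, D v = v ᵥ* (B - 1) := fun v => rfl
  have hle : LinearMap.range D ≤ LinearMap.ker D := by
    rintro _ ⟨v, rfl⟩
    rw [LinearMap.mem_ker, hD, hD, vecMul_vecMul, hsq, vecMul_zero]
  have h3 := Submodule.finrank_mono hle
  have h4 := LinearMap.finrank_range_add_finrank_ker D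
  rw [Module.finrank_fintype_fun_eq_card, Fintype.card_fin] at h4
  have h5 : 2 ≤ Module.finrank F (LinearMap.ker D) := by omega
  have hne : LinearMap.ker D ≠ ⊥ := by
    intro h
    rw [h, finrank_bot] at h5
    omega
  obtain ⟨ψ, hψ, hψ0⟩ := Submodule.exists_mem_ne_zero_of_ne_bot hne
  obtain ⟨ψ', hψ', hψ's⟩ : ∃ ψ' ∈ LinearMap.ker D, ψ' ∉ Submodule.span F {ψ} := by
    by_contra hcon
    push Not at hcon
    have h6 := Submodule.finrank_mono (show LinearMap.ker D ≤ Submodule.span F {ψ} from hcon)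
    have h7 := finrank_span_singleton (K := F) hψ0
    omega
  rw [LinearMap.mem_ker, hD] at hψ hψ'
  refine ⟨x, ψ, ψ', hx, hψ0, ?_, ?_, hψ, hψ'⟩
  · rintro rfl; exact hψ's (Submodule.zero_mem _)
  · intro h
    apply hψ's
    rw [Submodule.mem_span_singleton]
    exact ⟨-1, by rw [neg_one_smul]; exact (eq_neg_of_add_eq_zero_right h).symm⟩

variable {J : Finset (Fin t)}

/-- The homomorphism from the product of the `SL` in the slots in `J`. -/
def phi0 (J : Finset (Fin t)) : ({i // i ∈ J} → SLk F k) →* GLV F k t where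
  toFun f := pmGL (fun i => if h : i ∈ J then (f ⟨i, h⟩ : GL (Fin k) F) else 1)
  map_one' := by
    apply Units.ext
    rw [coe_pmGL, Units.val_one, ← pm_one]
    congr 1
    funext i
    split_ifs <;> simp
  map_mul' f g := by
    apply Units.ext
    rw [Units.val_mul, coe_pmGL, coe_pmGL, coe_pmGL, pm_mul]
    congr 1
    funext i
    split_ifs <;> simp

theorem phi0_apply (f : {i // i ∈ J} → SLk F k) :
    phi0 (t := t) J f = pmGL (fun i => if h : i ∈ J then (f ⟨i, h⟩ : GL (Fin k) F) else 1) := rfl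

theorem phi0_mo (f : {i // i ∈ J} → SLk F k) (i : {i // i ∈ J}) (A : Mk F k) :
    (phi0 (t := t) J f : Ma F k t) * sl i.1 A =
      sl i.1 (((f i : GL (Fin k) F) : Mk F k) * A * (((f i : GL (Fin k) F)⁻¹ : GL (Fin k) F) : Mk F k)) * (phi0 J f : Ma F k t) := by
  have := Mo_pmGL (t := t) (fun i => if h : i ∈ J then (f ⟨i, h⟩ : GL (Fin k) F) else 1) i.1 A
  dsimp only at this
  rw [dif_pos i.2] at this
  exact this

theorem phi0_out (f : {i // i ∈ J} → SLk F k) {i : Fin t} (hi : i ∉ J) : Cen i (phi0 (t := t) J f) := by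
  intro A
  have := Mo_pmGL (t := t) (fun i => if h : i ∈ J then (f ⟨i, h⟩ : GL (Fin k) F) else 1) i A
  dsimp only at this
  rw [dif_neg hi, inv_one, Units.val_one, one_mul, mul_one] at this
  exact this

theorem phi0_single (i : {i // i ∈ J}) (s : SLk F k) :
    phi0 (t := t) J (Pi.mulSingle i s) = slG i.1 (s : GL (Fin k) F) := by
  apply Units.ext
  rw [phi0_apply, coe_pmGL, coe_slG, sl_eq, slot]
  congr 1
  funext j
  by_cases hj : j = i.1
  · subst hj
    rw [dif_pos i.2, Function.update_self]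
    have : (⟨i.1, i.2⟩ : {i // i ∈ J}) = i := rfl
    rw [this, Pi.mulSingle_eq_same]
  · rw [Function.update_of_ne hj]
    split_ifs with h
    · rw [Pi.mulSingle_eq_of_ne]
      · simp
      · intro h'; exact hj (congrArg Subtype.val h')
    · simp

theorem phi0_mem (hk : 3 ≤ k) {M : Subgroup (GLV F k t)} (hX : ∀ i ∈ J, HX i M) (f : {i // i ∈ J} → SLk F k) :
    phi0 J f ∈ M := by
  have h1 : f ∈ M.comap (phi0 J) := by
    apply Subgroup.pi_mem_of_mulSingle_mem
    intro i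
    rw [Subgroup.mem_comap, phi0_single]
    exact (hX i.1 i.2).sl hk (f i).2
  exact h1

/-- Into `M`. -/
def phi (hk : 3 ≤ k) {M : Subgroup (GLV F k t)} (hX : ∀ i ∈ J, HX i M) : ({i // i ∈ J} → SLk F k) →* M :=
  (phi0 J).codRestrict M (phi0_mem hk hX)

theorem coe_phi (hk : 3 ≤ k) {M : Subgroup (GLV F k t)} (hX : ∀ i ∈ J, HX i M) (f : {i // i ∈ J} → SLk F k) :
    ((phi hk hX f : M) : GLV F k t) = phi0 J f := rfl

/-- Conjugation on `SL`. -/
def cj (b : GL (Fin k) F) : SLk F k ≃* SLk F k where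
  toFun s := ⟨b * s * b⁻¹, by
    rw [mem_specialLinear_iff, Units.val_mul, Units.val_mul, det_mul, det_mul, mul_right_comm, ← det_mul,
      Units.mul_inv, det_one, one_mul]
    exact (mem_specialLinear_iff _).1 s.2⟩
  invFun s := ⟨b⁻¹ * s * b, by
    rw [mem_specialLinear_iff, Units.val_mul, Units.val_mul, det_mul, det_mul, mul_right_comm, ← det_mul,
      Units.inv_mul, det_one, one_mul]
    exact (mem_specialLinear_iff _).1 s.2⟩
  left_inv s := Subtype.ext (by show b⁻¹ * (b * s * b⁻¹) * b = s; group)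
  right_inv s := Subtype.ext (by show b * (b⁻¹ * s * b) * b⁻¹ = s; group)
  map_mul' s s' := Subtype.ext (by
    show b * (s * s' : GL (Fin k) F) * b⁻¹ = b * s * b⁻¹ * (b * s' * b⁻¹)
    group)

theorem coe_cj (b : GL (Fin k) F) (s : SLk F k) : ((cj b s : SLk F k) : GL (Fin k) F) = b * s * b⁻¹ := rfl

/-- Equality of the actions on slot `i`. -/
theorem scalar_of_act [NeZero k] {y : GLV F k t} {i : Fin t} {B C : GL (Fin k) F}
    (hB : ∀ A : Mk F k, (y : Ma F k t) * sl i A = sl i ((B : Mk F k) * A * ((B⁻¹ : GL (Fin k) F) : Mk F k)) * (y : Ma F k t))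
    (hC : ∀ A : Mk F k, (y : Ma F k t) * sl i A = sl i ((C : Mk F k) * A * ((C⁻¹ : GL (Fin k) F) : Mk F k)) * (y : Ma F k t)) :
    ∃ c : F, (B : Mk F k) = c • (C : Mk F k) := by
  have h1 : ∀ A : Mk F k, Commute (((C⁻¹ * B : GL (Fin k) F)) : Mk F k) A := by
    intro A
    have h2 := slL_cancel (r := i) (g := y) ((hB A).symm.trans (hC A))
    have h3 := congrArg (fun X => ((C⁻¹ : GL (Fin k) F) : Mk F k) * X * (B : Mk F k)) h2
    simp only [mul_assoc, Units.inv_mul, mul_one, Units.inv_mul_cancel_left] at h3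
    show _ * _ = _ * _
    rw [Units.val_mul, mul_assoc, h3]
  obtain ⟨c, hc⟩ := scalar_of_forall_comm h1
  refine ⟨c, ?_⟩
  have h2 : (B : Mk F k) = (C : Mk F k) * ((C⁻¹ * B : GL (Fin k) F) : Mk F k) := by
    rw [← Units.val_mul]; congr 1; group
  rw [h2, hc, mul_smul_comm, mul_one]

/-- Root elements of `SL`. -/
def Dl (F : Type u) [Field F] (k : ℕ) : Set (SLk F k) :=
  {s | ∃ (w ψ : Fin k → F) (h : ψ ⬝ᵥ w = 0), w ≠ 0 ∧ ψ ≠ 0 ∧ (s : GL (Fin k) F) = tv w ψ h}

theorem mk_mem_Dl {w ψ : Fin k → F} (h : ψ ⬝ᵥ w = 0) (hw : w ≠ 0) (hψ : ψ ≠ 0) :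
    (⟨tv w ψ h, tv_mem_specialLinear w ψ h⟩ : SLk F k) ∈ Dl F k := ⟨w, ψ, h, hw, hψ, rfl⟩

theorem tv_sq (h2 : (2 : F) = 0) {w ψ : Fin k → F} (h0 : ψ ⬝ᵥ w = 0) : tv w ψ h0 * tv w ψ h0 = 1 := by
  have hadd : ∀ X : Mk F k, X + X = 0 := fun X => by rw [← two_smul F, h2, zero_smul]
  apply Units.ext
  rw [Units.val_mul, coe_tv, Units.val_one]
  have h11 : vecMulVec w ψ * vecMulVec w ψ = (0 : Mk F k) := by
    rw [vecMulVec_mul_vecMulVec, h0, zero_smul, vecMulVec_zero]
  have e1 : (1 + vecMulVec w ψ) * (1 + vecMulVec w ψ : Mk F k) = 1 + (vecMulVec w ψ + vecMulVec w ψ) +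
      vecMulVec w ψ * vecMulVec w ψ := by noncomm_ring
  rw [e1, h11, hadd]
  simp

theorem tv_mul_right {w ψ ψ' : Fin k → F} (h0 : ψ ⬝ᵥ w = 0) (h0' : ψ' ⬝ᵥ w = 0) :
    tv w ψ h0 * tv w ψ' h0' = tv w (ψ + ψ') (by rw [add_dotProduct, h0, h0', add_zero]) := by
  apply Units.ext
  rw [Units.val_mul, coe_tv, coe_tv, coe_tv, add_mul, one_mul, mul_add, mul_one,
    vecMulVec_mul_vecMulVec, h0, zero_smul, vecMulVec_zero, add_zero, vecMulVec_add]
  abel

/-- Commuting with a root element of `GL k`. -/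
theorem comm_tv {w ψ : Fin k → F} (h0 : ψ ⬝ᵥ w = 0) {b : GL (Fin k) F} (hw : (b : Mk F k) *ᵥ w = w)
    (hψ : ψ ᵥ* (b : Mk F k) = ψ) : Commute (tv w ψ h0) b := by
  apply Units.ext
  rw [Units.val_mul, Units.val_mul, coe_tv, add_mul, mul_add, one_mul, mul_one, vecMulVec_mul, mul_vecMulVec, hw, hψ]

/-- An involution and its fixed roots. -/
theorem inv_conf' (hk : 3 ≤ k) (h2 : (2 : F) = 0) {b : GL (Fin k) F} (hbb : b * b = 1) (hb1 : b ≠ 1) :
    ∃ (x w ψ ψ' : Fin k → F), w ≠ 0 ∧ ψ ≠ 0 ∧ ψ' ≠ 0 ∧ ψ + ψ' ≠ 0 ∧ ψ ⬝ᵥ w = 0 ∧ ψ' ⬝ᵥ w = 0 ∧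
      (b : Mk F k) *ᵥ w = w ∧ ψ ᵥ* (b : Mk F k) = ψ ∧ ψ' ᵥ* (b : Mk F k) = ψ' ∧ w = ((b : Mk F k) - 1) *ᵥ x := by
  have hBB : (b : Mk F k) * (b : Mk F k) = 1 := by rw [← Units.val_mul, hbb, Units.val_one]
  obtain ⟨x, ψ, ψ', hx, hψ, hψ', hψψ, h, h'⟩ := inv_conf hk h2 hBB
    (fun h => hb1 (Units.ext (by rw [h, Units.val_one])))
  refine ⟨x, _, ψ, ψ', hx, hψ, hψ', hψψ, ?_, ?_, ?_, ?_, ?_, rfl⟩
  · rw [dotProduct_mulVec, h, zero_dotProduct]
  · rw [dotProduct_mulVec, h', zero_dotProduct]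
  · rw [mulVec_mulVec, mul_sub, hBB, mul_one, sub_mulVec, sub_mulVec, one_mulVec]
    have h3 : (2 : F) • ((b : Mk F k) *ᵥ x - x) = 0 := by rw [h2, zero_smul]
    rw [two_smul] at h3
    rw [← sub_eq_zero]
    have : x - (b : Mk F k) *ᵥ x - ((b : Mk F k) *ᵥ x - x) = -((b : Mk F k) *ᵥ x - x + ((b : Mk F k) *ᵥ x - x)) := by abel
    rw [this, h3, neg_zero]
  · rw [vecMul_sub, vecMul_one] at h; exact sub_eq_zero.1 h
  · rw [vecMul_sub, vecMul_one] at h'; exact sub_eq_zero.1 h'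

variable {M : Subgroup (GLV F k t)}

theorem phi0_perm {h : GLV F k t} {σ : Equiv.Perm (Fin t)} {B : Fin t → GL (Fin k) F}
    (hm : Mo h σ B) (hσ : ∀ i, σ i ∈ J ↔ i ∈ J) (f : {i // i ∈ J} → SLk F k) :
    h * phi0 J f * h⁻¹ = phi0 J (fun j => cj (B ((σ.subtypePerm (fun i => (hσ i))).symm j).1)
      (f ((σ.subtypePerm (fun i => (hσ i))).symm j))) := by
  set π : Equiv.Perm {i // i ∈ J} := σ.subtypePerm (fun i => (hσ i)) with hπ
  let L : ({i // i ∈ J} → SLk F k) →* GLV F k t := (MulAut.conj h).toMonoidHom.comp (phi0 J)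
  let R' : ({i // i ∈ J} → SLk F k) →* GLV F k t := (phi0 J).comp
    { toFun := fun f j => cj (B (π.symm j).1) (f (π.symm j))
      map_one' := by funext j; simp
      map_mul' := fun f g => by funext j; simp }
  have hLR : f ∈ L.eqLocus R' := by
    apply Subgroup.pi_mem_of_mulSingle_mem
    intro i
    show h * phi0 J (Pi.mulSingle i (f i)) * h⁻¹ = phi0 J (fun j => cj (B (π.symm j).1)
      ((Pi.mulSingle i (f i) : {i // i ∈ J} → SLk F k) (π.symm j)))
    have h1 : (fun j => cj (B (π.symm j).1) ((Pi.mulSingle i (f i) : {i // i ∈ J} → SLk F k) (π.symm j))) =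
        Pi.mulSingle (π i) (cj (B i.1) (f i)) := by
      funext j
      by_cases hj : j = π i
      · subst hj
        rw [Equiv.symm_apply_apply, Pi.mulSingle_eq_same, Pi.mulSingle_eq_same]
      · rw [Pi.mulSingle_eq_of_ne hj, Pi.mulSingle_eq_of_ne, map_one]
        intro h2; exact hj (by rw [← h2, Equiv.apply_symm_apply])
    rw [h1, phi0_single, phi0_single, hm.slG, coe_cj]
    rfl
  exact hLR

theorem even_ti [Finite F] (hk : 3 ≤ k) (S : St J M) (IH : ∀ r ∈ J, M ⊓ CG F k r ≤ W F k t) :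
    ∀ i, ∀ d ∈ Dl F k, EvenTI.UF ((W F k t).subgroupOf M) (phi hk S.hx (Pi.mulSingle i d)) := by
  rintro i d ⟨w, ψ, h0, hw, hψ, hd⟩ g hg
  rw [Subgroup.mem_subgroupOf] at hg ⊢
  refine TI hk S IH i.2 h0 hw hψ g.2 ?_
  have h1 : ((g * phi hk S.hx (Pi.mulSingle i d) * g⁻¹ : M) : GLV F k t) = g * slG i.1 (tv w ψ h0) * (g : GLV F k t)⁻¹ := by
    rw [← hd, ← phi0_single]; rfl
  rw [← h1]; exact hg

theorem even_cent [Finite F] (hk : 3 ≤ k) (h2 : (2 : F) = 0) (S : St J M) (IH : ∀ r ∈ J, M ⊓ CG F k r ≤ W F k t)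
    (i : {i // i ∈ J}) (s : SLk F k) (hs : s * s = 1) (hs1 : s ≠ 1) (g : M)
    (hg : Commute g (phi hk S.hx (Pi.mulSingle i s))) : g ∈ (W F k t).subgroupOf M := by
  have : NeZero k := ⟨by omega⟩
  have hadd : ∀ X : Ma F k t, X + X = 0 := fun X => by rw [← two_smul F, h2, zero_smul]
  obtain ⟨x, w, ψ, ψ', hw, hψ, -, -, h0, -, hb, hψb, -, hwx⟩ := inv_conf' hk h2 (b := (s : GL (Fin k) F))
    (congrArg Subtype.val hs) (fun h => hs1 (Subtype.ext h))
  set D : Ma F k t := sl i.1 (((s : GL (Fin k) F) : Mk F k) - 1) with hD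
  have hgD : Commute ((g : GLV F k t) : Ma F k t) D := by
    have h1 : (g : GLV F k t) * slG i.1 (s : GL (Fin k) F) = slG i.1 (s : GL (Fin k) F) * (g : GLV F k t) := by
      have := congrArg Subtype.val hg.eq
      rw [Subgroup.coe_mul, Subgroup.coe_mul, coe_phi, phi0_single] at this
      exact this
    have h3 := congrArg Units.val h1
    rw [Units.val_mul, Units.val_mul, coe_slG] at h3
    show _ * _ = _ * _
    rw [hD, map_sub, map_one, mul_sub, sub_mul, h3, mul_one, one_mul]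
  let Q : Subgroup M :=
    { carrier := {a | ∃ y : Ma F k t, (((a : M) : GLV F k t) : Ma F k t) = 1 + D * y ∧ D * y * D = 0}
      one_mem' := ⟨0, by simp, by simp⟩
      mul_mem' := by
        rintro a b ⟨y, hy, hy0⟩ ⟨y', hy', hy0'⟩
        refine ⟨y + y', ?_, by rw [mul_add, add_mul, hy0, hy0', add_zero]⟩
        rw [Subgroup.coe_mul, Units.val_mul, hy, hy']
        have : (1 + D * y) * (1 + D * y') = 1 + D * (y + y') + D * y * D * y' := by noncomm_ring
        rw [this, hy0, zero_mul, add_zero]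
      inv_mem' := by
        rintro a ⟨y, hy, hy0⟩
        refine ⟨-y, ?_, by rw [mul_neg, neg_mul, hy0, neg_zero]⟩
        rw [Subgroup.coe_inv]
        apply Units.inv_eq_of_mul_eq_one_right
        rw [hy]
        have : (1 + D * y) * (1 + D * -y) = 1 - D * y * D * y := by noncomm_ring
        rw [this, hy0, zero_mul, sub_zero] }
  have hQ2 : IsPGroup 2 Q := by
    apply EvenTI.isPGroup_of_sq
    rintro b ⟨y, hy, hy0⟩
    apply Subtype.ext
    apply Units.ext
    rw [Subgroup.coe_mul, Units.val_mul, hy]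
    have : (1 + D * y) * (1 + D * y) = 1 + (D * y + D * y) + D * y * D * y := by noncomm_ring
    rw [this, hy0, hadd, zero_mul, add_zero, add_zero]
    rfl
  set r : M := phi hk S.hx (Pi.mulSingle i ⟨tv w ψ h0, tv_mem_specialLinear w ψ h0⟩) with hr
  have hrv : ((r : GLV F k t) : Ma F k t) = 1 + D * sl i.1 (vecMulVec x ψ) := by
    rw [hr, coe_phi, phi0_single]
    show (sl i.1 ((tv w ψ h0 : GL (Fin k) F) : Mk F k) : Ma F k t) = _
    rw [coe_tv, map_add, map_one, hD, ← map_mul, mul_vecMulVec, ← hwx]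
  have hr0 : D * sl i.1 (vecMulVec x ψ) * D = 0 := by
    rw [hD, ← map_mul, ← map_mul, mul_vecMulVec, vecMulVec_mul, vecMul_sub, hψb, vecMul_one, sub_self,
      vecMulVec_zero, map_zero]
  have hrQ : r ∈ Q := ⟨_, hrv, hr0⟩
  have hrU := even_ti hk S IH i _ (mk_mem_Dl h0 hw hψ)
  have hrH : r ∈ (W F k t).subgroupOf M := by
    rw [Subgroup.mem_subgroupOf, hr, coe_phi, phi0_apply]
    exact ⟨_, _, Mo_pmGL _⟩
  have hfin : Finite M := inferInstance
  have hQH : Q ≤ (W F k t).subgroupOf M := EvenTI.two_group_le _ Q hQ2 hrQ hrH hrU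
  apply hrU
  apply hQH
  refine ⟨((g : GLV F k t) : Ma F k t) * sl i.1 (vecMulVec x ψ) * (((g : GLV F k t)⁻¹ : GLV F k t) : Ma F k t), ?_, ?_⟩
  · show ((((g * r * g⁻¹ : M)) : GLV F k t) : Ma F k t) = _
    rw [Subgroup.coe_mul, Subgroup.coe_mul, Subgroup.coe_inv, Units.val_mul, Units.val_mul, hrv, mul_add, mul_one,
      add_mul, Units.mul_inv, ← mul_assoc, hgD.eq]
    simp only [mul_assoc]
  · have h3 : D * (((g : GLV F k t) : Ma F k t) * sl i.1 (vecMulVec x ψ) * (((g : GLV F k t)⁻¹ : GLV F k t) : Ma F k t)) * D =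
        ((g : GLV F k t) : Ma F k t) * (D * sl i.1 (vecMulVec x ψ) * D) * (((g : GLV F k t)⁻¹ : GLV F k t) : Ma F k t) := by
      have h4 : Commute (((g : GLV F k t)⁻¹ : GLV F k t) : Ma F k t) D := Commute.units_inv_left hgD
      calc D * (((g : GLV F k t) : Ma F k t) * sl i.1 (vecMulVec x ψ) * (((g : GLV F k t)⁻¹ : GLV F k t) : Ma F k t)) * D
          = (D * ((g : GLV F k t) : Ma F k t)) * sl i.1 (vecMulVec x ψ) *
            ((((g : GLV F k t)⁻¹ : GLV F k t) : Ma F k t) * D) := by simp only [mul_assoc]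
        _ = (((g : GLV F k t) : Ma F k t) * D) * sl i.1 (vecMulVec x ψ) *
            (D * (((g : GLV F k t)⁻¹ : GLV F k t) : Ma F k t)) := by rw [hgD.eq, h4.eq]
        _ = _ := by simp only [mul_assoc]
    rw [h3, hr0, mul_zero, zero_mul]

theorem even_fix [Finite F] (hk : 3 ≤ k) (h2 : (2 : F) = 0) (S : St J M) (y : M) (hy : y ∈ (W F k t).subgroupOf M)
    (hyy : y * y = 1) (π : Equiv.Perm {i // i ∈ J}) (θ : {i // i ∈ J} → SLk F k ≃* SLk F k)
    (hA : EvenTI.Acts (phi hk S.hx) y π θ) (i : {i // i ∈ J}) (hi : π i = i) :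
    ∃ d ∈ Dl F k, Commute y (phi hk S.hx (Pi.mulSingle i d)) := by
  have : NeZero k := ⟨by omega⟩
  have hk' : 3 ≤ Fintype.card (Fin k) := by simpa using hk
  obtain ⟨w₀, hw₀⟩ := exists_dual_one (F := F) (k := k) (by omega)
  obtain ⟨ψ₀, hψ₀, h₀, -⟩ := exists_kill_two (F := F) hk' w₀ w₀
  obtain ⟨σ, B, hm⟩ := Subgroup.mem_subgroupOf.1 hy
  have hsi : σ i.1 = i.1 := by
    by_contra hne
    have h1 := hA.single i ⟨tv w₀ ψ₀ h₀, tv_mem_specialLinear w₀ ψ₀ h₀⟩
    rw [hi] at h1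
    have h3 := congrArg Subtype.val h1
    rw [Subgroup.coe_mul, Subgroup.coe_mul, Subgroup.coe_inv, coe_phi, coe_phi, phi0_single, phi0_single, hm.slG] at h3
    obtain ⟨c, hc⟩ := scalar_of_sl_eq hne (congrArg Units.val h3)
    apply not_scalar_vec h₀ hw₀ hψ₀ c
    have h5 : ((tv w₀ ψ₀ h₀ : GL (Fin k) F) : Mk F k) = (((B i.1)⁻¹ : GL (Fin k) F) : Mk F k) *
        ((B i.1 * tv w₀ ψ₀ h₀ * (B i.1)⁻¹ : GL (Fin k) F) : Mk F k) * (B i.1 : Mk F k) := by
      simp [mul_assoc]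
    rw [h5, hc]
    simp
  -- the square of `B i` is scalar
  obtain ⟨c, hc⟩ : ∃ c : F, (B i.1 : Mk F k) * (B i.1 : Mk F k) = c • (1 : Mk F k) := by
    have hyy' : (y : GLV F k t) * y = 1 := congrArg Subtype.val hyy
    have h3 := (hm.mul hm) i.1
    rw [hyy'] at h3
    have h4 : (σ * σ) i.1 = i.1 := by
      show σ (σ i.1) = i.1
      rw [hsi, hsi]
    rw [h4] at h3
    dsimp only at h3
    rw [hsi] at h3
    obtain ⟨c, hc⟩ := scalar_of_act (i := i.1) (B := B i.1 * B i.1) h3 (C := 1) (by intro A; simp)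
    exact ⟨c, by rw [← Units.val_mul]; exact hc⟩
  obtain ⟨e, he⟩ := sqrt2 h2 c
  have he0 : e ≠ 0 := by
    intro h
    rw [he, h, mul_zero, zero_smul] at hc
    have h4 := congrArg (fun X => X * (((B i.1)⁻¹ : GL (Fin k) F) : Mk F k)) hc
    simp only [mul_assoc, Units.mul_inv, mul_one, zero_mul] at h4
    have h5 := congrArg (fun X => X * (((B i.1)⁻¹ : GL (Fin k) F) : Mk F k)) h4
    simp only [Units.mul_inv, zero_mul] at h5
    exact one_ne_zero h5
  let b : GL (Fin k) F := (Units.mk0 e he0)⁻¹ • B i.1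
  have hbv : (b : Mk F k) = e⁻¹ • (B i.1 : Mk F k) := rfl
  have hBv : (B i.1 : Mk F k) = e • (b : Mk F k) := by rw [hbv, smul_smul, mul_inv_cancel₀ he0, one_smul]
  have hbb : b * b = 1 := by
    apply Units.ext
    rw [Units.val_mul, hbv, smul_mul_smul_comm, hc, he, smul_smul, Units.val_one]
    have : e⁻¹ * e⁻¹ * (e * e) = 1 := by field_simp
    rw [this, one_smul]
  obtain ⟨w, ψ, h0, hw, hψ, hcb⟩ : ∃ (w ψ : Fin k → F) (h : ψ ⬝ᵥ w = 0), w ≠ 0 ∧ ψ ≠ 0 ∧ Commute (tv w ψ h) b := by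
    by_cases hb1 : b = 1
    · exact ⟨w₀, ψ₀, h₀, hw₀, hψ₀, by rw [hb1]; exact Commute.one_right _⟩
    · obtain ⟨x, w, ψ, ψ', hw, hψ, -, -, h0, -, hb, hψb, -, -⟩ := inv_conf' hk h2 hbb hb1
      exact ⟨w, ψ, h0, hw, hψ, comm_tv h0 hb hψb⟩
  refine ⟨_, mk_mem_Dl h0 hw hψ, ?_⟩
  have h3 : (y : GLV F k t) * slG i.1 (tv w ψ h0) * (y : GLV F k t)⁻¹ = slG i.1 (tv w ψ h0) := by
    rw [hm.slG, hsi]
    congr 1
    rw [mul_inv_eq_iff_eq_mul]
    apply Units.ext
    rw [Units.val_mul, Units.val_mul, hBv, smul_mul_assoc, mul_smul_comm]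
    congr 1
    exact (congrArg Units.val hcb.eq).symm
  apply Subtype.ext
  rw [Subgroup.coe_mul, Subgroup.coe_mul, coe_phi, phi0_single]
  exact mul_inv_eq_iff_eq_mul.1 h3

theorem even_data [Finite F] (hk : 3 ≤ k) (h2 : (2 : F) = 0) (S : St J M)
    (IH : ∀ r ∈ J, M ⊓ CG F k r ≤ W F k t) :
    EvenTI.Data ((W F k t).subgroupOf M) (phi hk S.hx) (Dl F k) where
  mem := by
    intro f
    rw [Subgroup.mem_subgroupOf, coe_phi, phi0_apply]
    exact ⟨_, _, Mo_pmGL _⟩
  inj := by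
    have : NeZero k := ⟨by omega⟩
    intro f f' hf hf' h
    have h1 : phi0 (t := t) J f = phi0 J f' := congrArg Subtype.val h
    funext i
    have h3 := phi0_mo (t := t) f' i
    rw [← h1] at h3
    obtain ⟨c, hc⟩ := scalar_of_act (phi0_mo (t := t) f i) h3
    have h4 : ((f i : GL (Fin k) F) : Mk F k) * ((f i : GL (Fin k) F) : Mk F k) = 1 := by
      rw [← Units.val_mul, ← Subgroup.coe_mul]
      have := congrFun hf i
      rw [Pi.mul_apply] at this
      rw [this]; rfl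
    have h5 : ((f' i : GL (Fin k) F) : Mk F k) * ((f' i : GL (Fin k) F) : Mk F k) = 1 := by
      rw [← Units.val_mul, ← Subgroup.coe_mul]
      have := congrFun hf' i
      rw [Pi.mul_apply] at this
      rw [this]; rfl
    have hcc : c * c = 1 := by
      rw [hc, smul_mul_smul_comm, h5] at h4
      have := congrFun (congrFun h4 0) 0
      simpa using this
    rw [one_of_sq h2 hcc, one_smul] at hc
    exact Subtype.ext (Units.ext hc)
  lift := by
    have : NeZero k := ⟨by omega⟩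
    intro f hff
    have hff' : phi0 (t := t) J f * phi0 J f = 1 := congrArg Subtype.val hff
    -- squares are scalars
    have h1 : ∀ i, ∃ c : F, ((f i : GL (Fin k) F) : Mk F k) * ((f i : GL (Fin k) F) : Mk F k) = c • (1 : Mk F k) := by
      intro i
      have h3 := phi0_mo (t := t) (f * f) i
      rw [map_mul, hff'] at h3
      obtain ⟨c, hc⟩ := scalar_of_act h3 (C := 1) (by intro A; simp)
      exact ⟨c, by rw [← Units.val_mul, ← Subgroup.coe_mul]; exact hc⟩
    choose c hc using h1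
    choose e he using fun i => sqrt2 h2 (c i)
    have he0 : ∀ i, e i ≠ 0 := by
      intro i h
      have h3 := hc i
      rw [he, h, mul_zero, zero_smul] at h3
      have h4 := congrArg (fun X => X * ((((f i : GL (Fin k) F)⁻¹ : GL (Fin k) F)) : Mk F k)) h3
      simp only [mul_assoc, Units.mul_inv, mul_one, zero_mul] at h4
      have h5 := congrArg (fun X => X * ((((f i : GL (Fin k) F)⁻¹ : GL (Fin k) F)) : Mk F k)) h4
      simp only [Units.mul_inv, zero_mul] at h5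
      exact one_ne_zero h5
    let g : ∀ i : {i // i ∈ J}, GL (Fin k) F := fun i => (Units.mk0 (e i) (he0 i))⁻¹ • (f i : GL (Fin k) F)
    have hgv : ∀ i, (g i : Mk F k) = (e i)⁻¹ • ((f i : GL (Fin k) F) : Mk F k) := fun i => rfl
    have hgg : ∀ i, g i * g i = 1 := by
      intro i
      apply Units.ext
      rw [Units.val_mul, hgv, smul_mul_smul_comm, hc, he, smul_smul, Units.val_one]
      have : (e i)⁻¹ * (e i)⁻¹ * (e i * e i) = 1 := by
        have := he0 i
        field_simp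
      rw [this, one_smul]
    have hdet : ∀ i, g i ∈ specialLinear (Fin k) F := by
      intro i
      rw [mem_specialLinear_iff]
      apply one_of_sq h2
      rw [← det_mul, ← Units.val_mul, hgg, Units.val_one, det_one]
    let f' : {i // i ∈ J} → SLk F k := fun i => ⟨g i, hdet i⟩
    have hf' : f' * f' = 1 := by
      funext i
      exact Subtype.ext (hgg i)
    refine ⟨f', hf', Subtype.ext ?_⟩
    show phi0 J f' = phi0 J f
    -- they differ by a scalar
    set y := phi0 (t := t) J f with hy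
    set y' := phi0 (t := t) J f' with hy'
    have hyy' : y' * y' = 1 := by rw [hy', ← map_mul, hf', map_one]
    obtain ⟨d, hd⟩ := exists_scalar_of_comm (x := ((y' * y⁻¹ : GLV F k t) : Ma F k t)) (by
      intro i A
      by_cases hi : i ∈ J
      · have h3 := phi0_mo (t := t) f ⟨i, hi⟩
        have h4 := phi0_mo (t := t) f' ⟨i, hi⟩
        have hcj : ∀ A : Mk F k, ((f' ⟨i, hi⟩ : GL (Fin k) F) : Mk F k) * A * ((((f' ⟨i, hi⟩ : GL (Fin k) F))⁻¹ : GL (Fin k) F) : Mk F k) =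
            ((f ⟨i, hi⟩ : GL (Fin k) F) : Mk F k) * A * ((((f ⟨i, hi⟩ : GL (Fin k) F))⁻¹ : GL (Fin k) F) : Mk F k) := by
          intro A
          have h5 : ((((f' ⟨i, hi⟩ : GL (Fin k) F))⁻¹ : GL (Fin k) F) : Mk F k) =
              (e ⟨i, hi⟩) • ((((f ⟨i, hi⟩ : GL (Fin k) F))⁻¹ : GL (Fin k) F) : Mk F k) := by
            have h6 : (g ⟨i, hi⟩)⁻¹ = (Units.mk0 (e ⟨i, hi⟩) (he0 _)) • (f ⟨i, hi⟩ : GL (Fin k) F)⁻¹ := by
              apply inv_eq_of_mul_eq_one_right
              apply Units.ext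
              rw [Units.val_mul, hgv]
              show _ * ((e ⟨i, hi⟩) • ((((f ⟨i, hi⟩ : GL (Fin k) F))⁻¹ : GL (Fin k) F) : Mk F k)) = _
              rw [smul_mul_smul_comm, inv_mul_cancel₀ (he0 _), one_smul, Units.mul_inv, Units.val_one]
            show (((g ⟨i, hi⟩)⁻¹ : GL (Fin k) F) : Mk F k) = _
            rw [h6]; rfl
          have h6 : ((f' ⟨i, hi⟩ : GL (Fin k) F) : Mk F k) = (e ⟨i, hi⟩)⁻¹ • ((f ⟨i, hi⟩ : GL (Fin k) F) : Mk F k) := rfl
          rw [h5, h6, smul_mul_assoc, smul_mul_smul_comm, inv_mul_cancel₀ (he0 _), one_smul]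
        show _ * _ = _ * _
        have h5 : (sl i A : Ma F k t) * (y : Ma F k t) = (y : Ma F k t) *
            sl i (((((f ⟨i, hi⟩ : GL (Fin k) F))⁻¹ : GL (Fin k) F) : Mk F k) * A * ((f ⟨i, hi⟩ : GL (Fin k) F) : Mk F k)) := by
          rw [h3]
          congr 2
          simp [mul_assoc]
        have h6 : ((y⁻¹ : GLV F k t) : Ma F k t) * sl i A =
            sl i (((((f ⟨i, hi⟩ : GL (Fin k) F))⁻¹ : GL (Fin k) F) : Mk F k) * A * ((f ⟨i, hi⟩ : GL (Fin k) F) : Mk F k)) *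
              ((y⁻¹ : GLV F k t) : Ma F k t) := by
          have h7 := congrArg (fun X => ((y⁻¹ : GLV F k t) : Ma F k t) * X * ((y⁻¹ : GLV F k t) : Ma F k t)) h5
          simp only [mul_assoc, Units.mul_inv, mul_one, Units.inv_mul_cancel_left] at h7
          rw [h7]; simp only [mul_assoc]
        rw [Units.val_mul, mul_assoc, h6, ← mul_assoc, h4, hcj, mul_assoc]
        congr 2
        simp [mul_assoc]
      · exact ((CG F k i).mul_mem (phi0_out f' hi) ((CG F k i).inv_mem (phi0_out f hi))) A)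
    have hyd : (y' : Ma F k t) = d • (y : Ma F k t) := by
      have h3 : (y' : Ma F k t) = ((y' * y⁻¹ : GLV F k t) : Ma F k t) * (y : Ma F k t) := by
        rw [← Units.val_mul]; congr 1; group
      rw [h3, hd, smul_mul_assoc, one_mul]
    have hdd : d * d = 1 := by
      have h3 := congrArg Units.val hyy'
      rw [Units.val_mul, hyd, smul_mul_smul_comm, ← Units.val_mul, hff', Units.val_one] at h3
      have := congrFun (congrFun h3 (fun _ => 0)) (fun _ => 0)
      simpa using this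
    apply Units.ext
    rw [hyd, one_of_sq h2 hdd, one_smul]
  perm := by
    have : NeZero k := ⟨by omega⟩
    rintro ⟨h, hh⟩ ⟨σ, B, hm⟩
    change Mo h σ B at hm
    have hout : ∀ i, i ∉ J → σ i = i := by
      intro i hi
      by_contra hne
      have h1 : ∀ A : Mk F k, (sl i A : Ma F k t) = sl (σ i) ((B i : Mk F k) * A * (((B i)⁻¹ : GL (Fin k) F) : Mk F k)) := by
        intro A
        have h3 := hm i A
        rw [(S.out i hi h hh A).eq] at h3
        have h4 := congrArg (fun X => X * ((h⁻¹ : GLV F k t) : Ma F k t)) h3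
        simpa only [mul_assoc, Units.mul_inv, mul_one] using h4
      have hk' : 3 ≤ Fintype.card (Fin k) := by simpa using hk
      obtain ⟨w, hw⟩ := exists_dual_one (F := F) (k := k) (by omega)
      obtain ⟨ψ, hψ, h0, -⟩ := exists_kill_two (F := F) hk' w w
      obtain ⟨c, hc⟩ := scalar_of_sl_eq (Ne.symm hne) (h1 ((tv w ψ h0 : GL (Fin k) F) : Mk F k))
      exact not_scalar_vec h0 hw hψ c hc
    have hσ : ∀ i, σ i ∈ J ↔ i ∈ J := by
      intro i
      constructor
      · intro h1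
        by_contra h3
        rw [hout i h3] at h1
        exact h3 h1
      · intro h1
        by_contra h3
        have h4 := hout (σ i) h3
        have h5 := σ.injective h4
        rw [h5] at h3
        exact h3 h1
    exact ⟨_, _, fun f => Subtype.ext (phi0_perm hm hσ f)⟩
  inv := by
    rintro d ⟨w, ψ, h0, hw, hψ, hd⟩
    refine ⟨Subtype.ext ?_, ?_⟩
    · show (d : GL (Fin k) F) * d = 1
      rw [hd, tv_sq h2]
    · rintro rfl
      apply not_scalar_vec h0 hw hψ 1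
      rw [← hd, one_smul]; rfl
  four := by
    intro s hs hs1
    obtain ⟨x, w, ψ, ψ', hw, hψ, hψ', hψψ, h0, h0', hb, hψb, hψb', -⟩ := inv_conf' hk h2 (b := (s : GL (Fin k) F))
      (congrArg Subtype.val hs) (fun h => hs1 (Subtype.ext h))
    refine ⟨_, mk_mem_Dl h0 hw hψ, _, mk_mem_Dl h0' hw hψ', ?_, ?_, ?_, ?_⟩
    · exact ⟨w, ψ + ψ', by rw [add_dotProduct, h0, h0', add_zero], hw, hψψ, tv_mul_right h0 h0'⟩
    · apply Subtype.ext
      show tv w ψ h0 * tv w ψ' h0' = tv w ψ' h0' * tv w ψ h0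
      rw [tv_mul_right, tv_mul_right]
      congr 1
      exact add_comm _ _
    · exact Subtype.ext (comm_tv h0 hb hψb).eq
    · exact Subtype.ext (comm_tv h0' hb hψb').eq
  sq := by
    have : Nontrivial (Fin k) := by
      refine ⟨⟨0, by omega⟩, ⟨1, by omega⟩, ?_⟩
      simp
    obtain ⟨v, hv, w, ψ, h0, hw, hψ, hvv⟩ := exists_sqrt (F := F) hk
    have h1 : Tr F k ≤ specialLinear (Fin k) F := by
      unfold Tr
      rw [Subgroup.closure_le]
      rintro _ ⟨w, ψ, h, rfl⟩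
      exact tv_mem_specialLinear w ψ h
    exact ⟨_, mk_mem_Dl h0 hw hψ, ⟨v, h1 hv⟩, Subtype.ext hvv⟩
  cent := even_cent hk h2 S IH
  ti := even_ti hk S IH
  fix := even_fix hk h2 S

/-- The induction step, characteristic two. -/
theorem even_step [Finite F] (hZ : EvenTI.ZStar.{u}) (hS : EvenTI.StrClosed.{u}) (hE : EvenTI.SEConj.{u})
    (hk : 3 ≤ k) (h2 : (2 : F) = 0) (S : St J M) (IH : ∀ r ∈ J, M ⊓ CG F k r ≤ W F k t) {i j : Fin t} (hi : i ∈ J)
    (hj : j ∈ J) (hij : i ≠ j) : M ≤ W F k t := by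
  have hfin : Finite M := inferInstance
  have h1 := EvenTI.main (even_data hk h2 S IH) hZ hS hE (i := ⟨i, hi⟩) (j := ⟨j, hj⟩)
    (fun h => hij (congrArg Subtype.val h))
  exact Subgroup.subgroupOf_eq_top.1 h1

end Cfsg.Agent.H205.C7
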