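import Cfsg.Agent.H205.C7.Step
import Mathlib.Algebra.Group.Commutator

/-!
# The centraliser of a root nilpotent in dimension three is soluble
-/

set_option autoImplicit false
set_option linter.unusedSectionVars false

namespace Cfsg.Agent.H205.C7

open Matrix Cfsg.Agent.H889 Cfsg.Agent.H872 Cfsg.Agent.H873 Cfsg.Geo
open scoped Kronecker MatrixGroups commutatorElement

variable {F : Type*} [Field F] {k : ℕ}

/-- Every root element is a commutator of root elements. -/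
theorem root_comm (hk : 3 ≤ k) {w ψ : Fin k → F} (h0 : ψ ⬝ᵥ w = 0) (hψ : ψ ≠ 0) :
    ∃ (b c : Fin k → F) (hb : b ⬝ᵥ w = 0) (hc : ψ ⬝ᵥ c = 0), b ≠ 0 ∧ c ≠ 0 ∧
      ⁅tv w b hb, tv c ψ hc⁆ = tv w ψ h0 := by
  obtain ⟨b, c, hbw, hψc, hbc⟩ := exists_conf hk w hψ
  refine ⟨b, c, hbw, hψc, ?_, ?_, ?_⟩
  · rintro rfl; rw [zero_dotProduct] at hbc; exact zero_ne_one hbc
  · rintro rfl; rw [dotProduct_zero] at hbc; exact zero_ne_one hbc
  · rw [commutatorElement_def, mul_inv_eq_iff_eq_mul, mul_inv_eq_iff_eq_mul]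
    apply Units.ext
    simp only [Units.val_mul, coe_tv]
    have h12 : vecMulVec w b * vecMulVec c ψ = (vecMulVec w ψ : Mk F k) := by
      rw [vecMulVec_mul_vecMulVec, hbc, one_smul]
    have h21 : vecMulVec c ψ * vecMulVec w b = (0 : Mk F k) := by
      rw [vecMulVec_mul_vecMulVec, h0, zero_smul, vecMulVec_zero]
    have h32 : vecMulVec w ψ * vecMulVec c ψ = (0 : Mk F k) := by
      rw [vecMulVec_mul_vecMulVec, hψc, zero_smul, vecMulVec_zero]
    have h31 : vecMulVec w ψ * vecMulVec w b = (0 : Mk F k) := by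
      rw [vecMulVec_mul_vecMulVec, h0, zero_smul, vecMulVec_zero]
    generalize (vecMulVec w b : Mk F k) = N at *
    generalize (vecMulVec c ψ : Mk F k) = K at *
    generalize (vecMulVec w ψ : Mk F k) = L at *
    have e1 : (1 + N) * (1 + K) = 1 + N + K + N * K := by noncomm_ring
    have e2 : (1 + L) * (1 + K) * (1 + N) = 1 + N + K + L + L * N + L * K + K * N + L * (K * N) := by noncomm_ring
    rw [e1, e2, h12, h21, h31, h32]
    simp

variable {w ψ : Fin k → F}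

theorem eig (hw : w ≠ 0) (hψ : ψ ≠ 0) {B : Mk F k} (h : B * vecMulVec w ψ = vecMulVec w ψ * B) :
    ∃ l : F, B *ᵥ w = l • w ∧ ψ ᵥ* B = l • ψ := by
  obtain ⟨y, hy⟩ := exists_dot_one hψ
  obtain ⟨θ, hθ⟩ := exists_dot_one hw
  refine ⟨ψ ⬝ᵥ (B *ᵥ y), ?_, ?_⟩
  · have h1 := congrArg (fun X => X *ᵥ y) h
    simp only [← mulVec_mulVec, vecMulVec_mulVec, op_smul_eq_smul, hy, one_smul] at h1
    exact h1
  · have h1 := congrArg (fun X => X *ᵥ y) h
    simp only [← mulVec_mulVec, vecMulVec_mulVec, op_smul_eq_smul, hy, one_smul] at h1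
    have h2 := congrArg (fun X => θ ᵥ* X) h
    simp only [mul_vecMulVec, vecMulVec_mul, vecMul_vecMulVec, h1] at h2
    rw [dotProduct_comm] at hθ
    rw [dotProduct_smul, hθ, smul_eq_mul, mul_one, one_smul] at h2
    exact h2.symm

/-- Coordinates in the kernel of `ψ`, dimension three. -/
theorem ker_coords (hk : k = 3) (h0 : ψ ⬝ᵥ w = 0) (hw : w ≠ 0) (hψ : ψ ≠ 0) :
    ∃ c : Fin k → F, ψ ⬝ᵥ c = 0 ∧ ∀ y, ψ ⬝ᵥ y = 0 → ∃ α γ : F, y = α • w + γ • c := by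
  obtain ⟨b, c, hbw, hψc, hbc⟩ := exists_conf hk.ge w hψ
  refine ⟨c, hψc, fun y hy => ?_⟩
  obtain ⟨y1, hy1⟩ := exists_dot_one hψ
  by_cases hpar : ∃ α : F, y - (b ⬝ᵥ y) • c = α • w
  · obtain ⟨α, hα⟩ := hpar
    exact ⟨α, b ⬝ᵥ y, by rw [← hα]; abel⟩
  · exfalso
    obtain ⟨θ, hθ1, hθw⟩ := exists_dot_pair hpar
    set y' := y - (b ⬝ᵥ y) • c with hy'
    have hψy' : ψ ⬝ᵥ y' = 0 := by rw [hy', dotProduct_sub, dotProduct_smul, hy, hψc, smul_zero, sub_zero]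
    have hby' : b ⬝ᵥ y' = 0 := by rw [hy', dotProduct_sub, dotProduct_smul, hbc, smul_eq_mul, mul_one, sub_self]
    have hli : LinearIndependent F ![w, y', c, y1] := by
      rw [Fintype.linearIndependent_iff]
      intro a ha
      rw [Fin.sum_univ_four] at ha
      simp only [Matrix.cons_val_zero, Matrix.cons_val_one, Matrix.cons_val] at ha
      have e1 := congrArg (fun v => ψ ⬝ᵥ v) ha
      simp only [dotProduct_add, dotProduct_smul, h0, hψy', hψc, hy1, smul_eq_mul, mul_zero, mul_one, zero_add,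
        dotProduct_zero] at e1
      have e2 := congrArg (fun v => b ⬝ᵥ v) ha
      simp only [dotProduct_add, dotProduct_smul, hbw, hby', hbc, e1, smul_eq_mul, mul_zero, mul_one, zero_add,
        zero_mul, add_zero, dotProduct_zero] at e2
      have e3 := congrArg (fun v => θ ⬝ᵥ v) ha
      simp only [dotProduct_add, dotProduct_smul, hθ1, hθw, e1, e2, smul_eq_mul, mul_zero, mul_one, zero_add,
        zero_mul, add_zero, dotProduct_zero] at e3
      rw [e1, e2, e3, zero_smul, zero_smul, zero_smul, add_zero, add_zero, add_zero] at ha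
      have e4 : a 0 = 0 := (smul_eq_zero.1 ha).resolve_right hw
      intro i
      fin_cases i
      · exact e4
      · exact e3
      · exact e2
      · exact e1
    have := hli.fintype_card_le_finrank
    rw [Module.finrank_fintype_fun_eq_card, Fintype.card_fin, Fintype.card_fin] at this
    omega

/-- First level. -/
def J1 (w ψ : Fin k → F) (B : GL (Fin k) F) : Prop :=
  (B : Mk F k) *ᵥ w = w ∧ ψ ᵥ* (B : Mk F k) = ψ ∧ ∀ y, ψ ⬝ᵥ y = 0 → ∃ c : F, (B : Mk F k) *ᵥ y = y + c • w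

theorem comm_eq {B C : GL (Fin k) F} :
    ((⁅B, C⁆ : GL (Fin k) F) : Mk F k) = 1 + ((B : Mk F k) * (C : Mk F k) - (C : Mk F k) * (B : Mk F k)) * (((C * B)⁻¹ : GL (Fin k) F) : Mk F k) := by
  rw [sub_mul, ← Units.val_mul, ← Units.val_mul, ← Units.val_mul, ← Units.val_mul, mul_inv_cancel, Units.val_one,
    commutatorElement_def]
  have : B * C * B⁻¹ * C⁻¹ = B * C * (C * B)⁻¹ := by group
  rw [this]
  abel

theorem level1 (hk : k = 3) (h0 : ψ ⬝ᵥ w = 0) (hw : w ≠ 0) (hψ : ψ ≠ 0) {B C : GL (Fin k) F}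
    (hB : (B : Mk F k) * vecMulVec w ψ = vecMulVec w ψ * (B : Mk F k))
    (hC : (C : Mk F k) * vecMulVec w ψ = vecMulVec w ψ * (C : Mk F k)) :
    J1 w ψ ⁅B, C⁆ := by
  obtain ⟨l, hBw, hBψ⟩ := eig hw hψ hB
  obtain ⟨m, hCw, hCψ⟩ := eig hw hψ hC
  obtain ⟨c, hψc, hker⟩ := ker_coords hk h0 hw hψ
  have hD : ((((C * B)⁻¹ : GL (Fin k) F)) : Mk F k) * vecMulVec w ψ = vecMulVec w ψ * (((C * B)⁻¹ : GL (Fin k) F) : Mk F k) := by
    have h1 : Commute ((C * B : GL (Fin k) F) : Mk F k) (vecMulVec w ψ) := by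
      rw [Units.val_mul]; exact Commute.mul_left hC hB
    exact (Commute.units_inv_left (u := C * B) h1).eq
  obtain ⟨n, hDw, hDψ⟩ := eig hw hψ hD
  set D : GL (Fin k) F := (C * B)⁻¹ with hDdef
  have hXw : ((B : Mk F k) * (C : Mk F k) - (C : Mk F k) * (B : Mk F k)) *ᵥ w = 0 := by
    rw [sub_mulVec, ← mulVec_mulVec, ← mulVec_mulVec, hCw, hBw, mulVec_smul, mulVec_smul, hBw, hCw, smul_comm, sub_self]
  have hψX : ψ ᵥ* ((B : Mk F k) * (C : Mk F k) - (C : Mk F k) * (B : Mk F k)) = 0 := by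
    rw [vecMul_sub, ← vecMul_vecMul, ← vecMul_vecMul, hBψ, hCψ, smul_vecMul, smul_vecMul, hBψ, hCψ, smul_comm, sub_self]
  have hBc : ∃ α γ : F, (B : Mk F k) *ᵥ c = α • w + γ • c := by
    apply hker
    rw [dotProduct_mulVec, hBψ, smul_dotProduct, hψc, smul_zero]
  have hCc : ∃ α γ : F, (C : Mk F k) *ᵥ c = α • w + γ • c := by
    apply hker
    rw [dotProduct_mulVec, hCψ, smul_dotProduct, hψc, smul_zero]
  obtain ⟨αB, γB, hBc⟩ := hBc
  obtain ⟨αC, γC, hCc⟩ := hCc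
  have hXc : ((B : Mk F k) * (C : Mk F k) - (C : Mk F k) * (B : Mk F k)) *ᵥ c = (αC * l + γC * αB - (αB * m + γB * αC)) • w := by
    rw [sub_mulVec, ← mulVec_mulVec, ← mulVec_mulVec, hCc, hBc, mulVec_add, mulVec_add, mulVec_smul, mulVec_smul,
      mulVec_smul, mulVec_smul, hBw, hCw, hBc, hCc]
    ext i
    simp only [Pi.sub_apply, Pi.add_apply, Pi.smul_apply, smul_eq_mul]
    ring
  have hXk : ∀ y, ψ ⬝ᵥ y = 0 → ∃ c : F, ((B : Mk F k) * (C : Mk F k) - (C : Mk F k) * (B : Mk F k)) *ᵥ y = c • w := by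
    intro y hy
    obtain ⟨α, γ, rfl⟩ := hker y hy
    rw [mulVec_add, mulVec_smul, mulVec_smul, hXw, hXc, smul_zero, zero_add]
    exact ⟨_, smul_smul _ _ _⟩
  refine ⟨?_, ?_, ?_⟩
  · rw [comm_eq, add_mulVec, one_mulVec, ← mulVec_mulVec, hDw, mulVec_smul, hXw, smul_zero, add_zero]
  · rw [comm_eq, vecMul_add, vecMul_one, ← vecMul_vecMul, hψX, zero_vecMul, add_zero]
  · intro y hy
    rw [comm_eq, add_mulVec, one_mulVec, ← mulVec_mulVec]
    obtain ⟨c', hc'⟩ := hXk ((D : Mk F k) *ᵥ y) (by rw [dotProduct_mulVec, hDψ, smul_dotProduct, hy, smul_zero])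
    exact ⟨c', by rw [hc']⟩

theorem level2 (h0 : ψ ⬝ᵥ w = 0) (hψ : ψ ≠ 0) {B C : GL (Fin k) F} (hB : J1 w ψ B) (hC : J1 w ψ C) :
    ∃ c : F, ((⁅B, C⁆ : GL (Fin k) F) : Mk F k) = 1 + c • vecMulVec w ψ := by
  obtain ⟨hBw, hBψ, hBk⟩ := hB
  obtain ⟨hCw, hCψ, hCk⟩ := hC
  obtain ⟨y1, hy1⟩ := exists_dot_one hψ
  have hb : ψ ⬝ᵥ ((B : Mk F k) *ᵥ y1 - y1) = 0 := by rw [dotProduct_sub, dotProduct_mulVec, hBψ, sub_self]
  have hc : ψ ⬝ᵥ ((C : Mk F k) *ᵥ y1 - y1) = 0 := by rw [dotProduct_sub, dotProduct_mulVec, hCψ, sub_self]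
  obtain ⟨β, hβ⟩ := hBk _ hc
  obtain ⟨γ, hγ⟩ := hCk _ hb
  have hX1 : ((B : Mk F k) * (C : Mk F k) - (C : Mk F k) * (B : Mk F k)) *ᵥ y1 = (β - γ) • w := by
    rw [sub_mulVec, ← mulVec_mulVec, ← mulVec_mulVec]
    rw [mulVec_sub] at hβ hγ
    have e1 : (B : Mk F k) *ᵥ ((C : Mk F k) *ᵥ y1) = (B : Mk F k) *ᵥ y1 + ((C : Mk F k) *ᵥ y1 - y1 + β • w) := by
      rw [← hβ]; abel
    have e2 : (C : Mk F k) *ᵥ ((B : Mk F k) *ᵥ y1) = (C : Mk F k) *ᵥ y1 + ((B : Mk F k) *ᵥ y1 - y1 + γ • w) := by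
      rw [← hγ]; abel
    rw [e1, e2, sub_smul]
    abel
  have hXk : ∀ y, ψ ⬝ᵥ y = 0 → ((B : Mk F k) * (C : Mk F k) - (C : Mk F k) * (B : Mk F k)) *ᵥ y = 0 := by
    intro y hy
    obtain ⟨b, hb⟩ := hBk y hy
    obtain ⟨c, hc⟩ := hCk y hy
    rw [sub_mulVec, ← mulVec_mulVec, ← mulVec_mulVec, hc, hb, mulVec_add, mulVec_add, mulVec_smul, mulVec_smul,
      hBw, hCw, hb, hc]
    abel
  have hX : (B : Mk F k) * (C : Mk F k) - (C : Mk F k) * (B : Mk F k) = (β - γ) • vecMulVec w ψ := by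
    apply Matrix.mulVec_injective
    funext v
    have h1 : v = (v - (ψ ⬝ᵥ v) • y1) + (ψ ⬝ᵥ v) • y1 := by abel
    rw [smul_mulVec, vecMulVec_mulVec, op_smul_eq_smul]
    conv_lhs => rw [h1]
    rw [mulVec_add, mulVec_smul, hX1, hXk _ (by
      rw [dotProduct_sub, dotProduct_smul, hy1, smul_eq_mul, mul_one, sub_self]), zero_add, smul_comm]
  refine ⟨β - γ, ?_⟩
  have hinv : ψ ᵥ* (((C * B)⁻¹ : GL (Fin k) F) : Mk F k) = ψ := by
    have h1 : ψ = ψ ᵥ* ((C * B : GL (Fin k) F) : Mk F k) := by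
      rw [Units.val_mul, ← vecMul_vecMul, hCψ, hBψ]
    conv_lhs => rw [h1]
    rw [vecMul_vecMul, Units.mul_inv, vecMul_one]
  rw [comm_eq, hX, smul_mul_assoc, vecMulVec_mul, hinv]

theorem level3 {B C : GL (Fin k) F} {b c : F} (hB : (B : Mk F k) = 1 + b • vecMulVec w ψ)
    (hC : (C : Mk F k) = 1 + c • vecMulVec w ψ) : ⁅B, C⁆ = 1 := by
  rw [commutatorElement_eq_one_iff_mul_comm]
  apply Units.ext
  rw [Units.val_mul, Units.val_mul, hB, hC]
  have : Commute (1 + b • vecMulVec w ψ : Mk F k) (1 + c • vecMulVec w ψ) :=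
    Commute.add_left (Commute.one_left _) (Commute.add_right (Commute.one_right _)
      ((Commute.refl _).smul_left b |>.smul_right c))
  exact this.eq

end Cfsg.Agent.H205.C7
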