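import Cfsg.Agent.H205.C7.TI
import Cfsg.Agent.H891.QuadTI

/-!
# The final step in odd characteristic
-/

set_option autoImplicit false
set_option linter.unusedSectionVars false

namespace Cfsg.Agent.H205.C7

open Matrix Cfsg.Agent.H889 Cfsg.Agent.H872 Cfsg.Agent.H873 Cfsg.Geo
open scoped Kronecker MatrixGroups

section Kron

variable {α : Type} [Fintype α] [DecidableEq α] {F : Type*} [Field F] {k : ℕ}

theorem ten_parallel {u u' : α → F} {y w : Fin k → F} (hu : u ≠ 0) (h : ten u y = ten u' w) : ∃ c : F, y = c • w := by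
  obtain ⟨φ, hφ⟩ := exists_dot_one hu
  rw [dotProduct_comm] at hφ
  have h1 := congrArg (lc φ) h
  rw [lc_ten, lc_ten, hφ, one_smul] at h1
  exact ⟨_, h1⟩

theorem kron_cancel_left {A : Matrix α α F} (hA : A ≠ 0) {X Y : Mk F k} (h : A ⊗ₖ X = A ⊗ₖ Y) : X = Y := by
  obtain ⟨i, j, hij⟩ : ∃ i j, A i j ≠ 0 := by
    by_contra hcon
    push Not at hcon
    exact hA (Matrix.ext hcon)
  ext p q
  have := congrFun (congrFun h (i, p)) (j, q)
  rw [kroneckerMap_apply, kroneckerMap_apply] at this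
  exact mul_left_cancel₀ hij this

/-- The geometry of the involution. -/
theorem odd_final [Nonempty α] (hk : 3 ≤ k) (h2 : (2 : F) ≠ 0) {w ψ : Fin k → F} (h0 : ψ ⬝ᵥ w = 0) (hw : w ≠ 0)
    (hψ : ψ ≠ 0) {N K σ : Matrix (α × Fin k) (α × Fin k) F} (hN : N = (1 : Matrix α α F) ⊗ₖ vecMulVec w ψ)
    (hKK : K * K = 0)
    (hrk : Module.finrank F (LinearMap.range (Matrix.toLin' K)) ≤ Module.finrank F (LinearMap.range (Matrix.toLin' N)))
    {a : GL α F} {b : GL (Fin k) F} {z : Matrix (α × Fin k) (α × Fin k) F} (hzab : z = (a : Matrix α α F) ⊗ₖ (b : Mk F k))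
    (hzz : z * z = 1) (hz1 : z ≠ 1) (hzN : Commute z N) (hσN : Commute σ N) (hσK : Commute σ K)
    (hz : z = 1 + N * K * σ + K * N * σ) (v : α × Fin k → F) (φ : α → F) (hy : ψ ⬝ᵥ lc φ (K *ᵥ v) = 0) :
    ∃ c : F, lc φ (K *ᵥ v) = c • w := by
  have hNv : ∀ v, N *ᵥ v = ten (rc ψ v) w := by
    intro v
    rw [hN, kron_vecMulVec_mulVec, one_mulVec]
  have hNN : N * N = 0 := by
    rw [hN, ← mul_kronecker_mul, vecMulVec_mul_vecMulVec, h0, zero_smul, vecMulVec_zero, kronecker_zero]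
  -- (i)
  have key1 : ∀ v, z *ᵥ v = -v → N *ᵥ v = 0 → ∃ u, v = ten u w := by
    intro v hv hNv0
    have h1 : z *ᵥ v = v + N *ᵥ (K *ᵥ (σ *ᵥ v)) + K *ᵥ (σ *ᵥ (N *ᵥ v)) := by
      rw [mulVec_mulVec, mulVec_mulVec, mulVec_mulVec, mulVec_mulVec, hz, add_mulVec, add_mulVec, one_mulVec,
        mul_assoc N K σ, mul_assoc K N σ, mul_assoc K σ N, hσN.eq]
    rw [hNv0, mulVec_zero, mulVec_zero, add_zero, hv] at h1
    have h3 : v = N *ᵥ ((-(2 : F)⁻¹) • (K *ᵥ (σ *ᵥ v))) := by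
      rw [mulVec_smul]
      have h4 : N *ᵥ (K *ᵥ (σ *ᵥ v)) = -((2 : F) • v) := by
        rw [two_smul]
        have := congrArg (fun x => x - v) h1
        simp only [add_sub_cancel_left] at this
        rw [← this]; abel
      rw [h4, smul_neg, neg_smul, neg_neg, smul_smul, inv_mul_cancel₀ h2, one_smul]
    rw [hNv] at h3
    exact ⟨_, h3⟩
  -- (ii)
  have ha0 : (a : Matrix α α F) ≠ 0 := by
    intro h
    have h1 := Units.mul_inv a
    rw [h, zero_mul] at h1
    exact zero_ne_one h1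
  obtain ⟨l, hbw, hψb⟩ : ∃ l : F, (b : Mk F k) *ᵥ w = l • w ∧ ψ ᵥ* (b : Mk F k) = l • ψ := by
    apply eig hw hψ
    have h1 := hzN.eq
    rw [hzab, hN, ← mul_kronecker_mul, ← mul_kronecker_mul, mul_one, one_mul] at h1
    exact kron_cancel_left ha0 h1
  have hl : l ≠ 0 := by
    rintro rfl
    rw [zero_smul] at hbw
    have h1 := inv_mulVec_mulVec b w
    rw [hbw, mulVec_zero] at h1
    exact hw h1.symm
  set A : Matrix α α F := l • (a : Matrix α α F) with hA
  set B : Mk F k := l⁻¹ • (b : Mk F k) with hB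
  have hzAB : z = A ⊗ₖ B := by
    rw [hA, hB, smul_kronecker, kronecker_smul, smul_smul, mul_inv_cancel₀ hl, one_smul, hzab]
  have hBw : B *ᵥ w = w := by rw [hB, smul_mulVec, hbw, smul_smul, inv_mul_cancel₀ hl, one_smul]
  have hψB : ψ ᵥ* B = ψ := by rw [hB, vecMul_smul, hψb, smul_smul, inv_mul_cancel₀ hl, one_smul]
  have hzt : ∀ u y, z *ᵥ ten u y = ten (A *ᵥ u) (B *ᵥ y) := by
    intro u y; rw [hzAB, kron_mulVec_ten]
  have hNt : ∀ (u : α → F) y, ψ ⬝ᵥ y = 0 → N *ᵥ ten u y = 0 := by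
    intro u y h; rw [hNv, rc_ten, h, zero_smul, ten_zero_left]
  have hzzv : ∀ v, z *ᵥ (z *ᵥ v) = v := by intro v; rw [mulVec_mulVec, hzz, one_mulVec]
  have hAA : ∀ u, A *ᵥ (A *ᵥ u) = u := by
    intro u
    have h1 := hzzv (ten u w)
    rw [hzt, hBw, hzt, hBw] at h1
    exact ten_left_injective hw h1
  -- (iii)
  have hfix : ∀ u, A *ᵥ u = u → u = 0 := by
    intro u hu
    by_contra hu0
    have hBy : ∀ y, B *ᵥ y = y := by
      intro y
      have hBB : B *ᵥ (B *ᵥ y) = y := by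
        have h1 := hzzv (ten u y)
        rw [hzt, hu, hzt, hu] at h1
        exact ten_right_injective hu0 h1
      have h1 : z *ᵥ ten u (y - B *ᵥ y) = - ten u (y - B *ᵥ y) := by
        rw [hzt, hu, mulVec_sub, hBB]
        have : B *ᵥ y - y = (-1 : F) • (y - B *ᵥ y) := by rw [neg_one_smul]; abel
        rw [this, ten_smul_right, neg_one_smul]
      obtain ⟨u', hu'⟩ := key1 _ h1 (hNt u _ (by rw [dotProduct_sub, dotProduct_mulVec, hψB, sub_self]))
      obtain ⟨c, hc⟩ := ten_parallel hu0 hu'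
      have h3 : B *ᵥ (y - B *ᵥ y) = y - B *ᵥ y := by rw [hc, mulVec_smul, hBw]
      rw [mulVec_sub, hBB] at h3
      have h4 : (2 : F) • (B *ᵥ y - y) = 0 := by
        rw [two_smul]; nth_rewrite 2 [h3]; abel
      exact sub_eq_zero.1 ((smul_eq_zero.1 h4).resolve_left h2)
    obtain ⟨u', hu'⟩ : ∃ u', A *ᵥ u' ≠ u' := by
      by_contra hcon
      push Not at hcon
      apply hz1
      have hA1 : A = 1 := Matrix.mulVec_injective (funext fun v => by rw [hcon, one_mulVec])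
      have hB1 : B = 1 := Matrix.mulVec_injective (funext fun v => by rw [hBy, one_mulVec])
      rw [hzAB, hA1, hB1, one_kronecker_one]
    have hu'' : A *ᵥ u' - u' ≠ 0 := sub_ne_zero.2 hu'
    have hAu'' : A *ᵥ (A *ᵥ u' - u') = -(A *ᵥ u' - u') := by rw [mulVec_sub, hAA]; abel
    obtain ⟨b', c, hbw', hψc, hbc⟩ := exists_conf hk w hψ
    have h1 : z *ᵥ ten (A *ᵥ u' - u') c = - ten (A *ᵥ u' - u') c := by rw [hzt, hAu'', hBy, ten_neg_left]
    obtain ⟨u3, hu3⟩ := key1 _ h1 (hNt _ _ hψc)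
    obtain ⟨d, hd⟩ := ten_parallel hu'' hu3
    rw [hd, dotProduct_smul, hbw', smul_zero] at hbc
    exact zero_ne_one hbc
  -- (iv)
  have hneg : ∀ u, A *ᵥ u = -u := by
    intro u
    have h1 := hfix (A *ᵥ u + u) (by rw [mulVec_add, hAA]; abel)
    exact eq_neg_of_add_eq_zero_left h1
  -- (v)
  have hzN' : z * N = -N := by
    apply Matrix.mulVec_injective
    funext v
    rw [← mulVec_mulVec, hNv, hzt, hneg, hBw, ten_neg_left, neg_mulVec, hNv]
  have hNKN : N * K * N * σ = (-(2 : F)) • N := by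
    have h1 : z * N = N + N * K * N * σ := by
      rw [hz, add_mul, add_mul, one_mul, mul_assoc (N * K) σ N, hσN.eq, mul_assoc (K * N) σ N, hσN.eq,
        ← mul_assoc, ← mul_assoc, mul_assoc K N N, hNN, mul_zero, zero_mul, add_zero]
    rw [hzN'] at h1
    rw [neg_smul, two_smul]
    have := congrArg (fun x => x - N) h1
    simp only [add_sub_cancel_left] at this
    rw [← this]; abel
  set Q := (-(2 : F)⁻¹) • (K * N * σ) with hQ
  have hNQ : N * Q = N := by
    rw [hQ, mul_smul_comm, ← mul_assoc, ← mul_assoc, hNKN, smul_smul]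
    simp [h2]
  have hQQ : Q * Q = Q := by
    have h1 : K * N * σ * (K * N * σ) = (-(2 : F)) • (K * N * σ) := by
      calc K * N * σ * (K * N * σ) = K * N * (σ * K) * N * σ := by simp only [mul_assoc]
        _ = K * N * (K * σ) * N * σ := by rw [hσK.eq]
        _ = K * (N * K * (σ * N)) * σ := by simp only [mul_assoc]
        _ = K * (N * K * (N * σ)) * σ := by rw [hσN.eq]
        _ = K * (N * K * N * σ) * σ := by simp only [mul_assoc]
        _ = _ := by rw [hNKN, mul_smul_comm, smul_mul_assoc]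
    rw [hQ, smul_mul_smul_comm, h1, smul_smul]
    congr 1
    field_simp
  have hrange : LinearMap.range (Matrix.toLin' Q) = LinearMap.range (Matrix.toLin' K) := by
    apply Submodule.eq_of_le_of_finrank_le
    · rintro _ ⟨v, rfl⟩
      refine ⟨(-(2 : F)⁻¹) • (N *ᵥ (σ *ᵥ v)), ?_⟩
      rw [Matrix.toLin'_apply, Matrix.toLin'_apply, hQ, smul_mulVec, mulVec_smul, mulVec_mulVec, mulVec_mulVec,
        mul_assoc]
    · refine hrk.trans ?_
      have h1 := LinearMap.finrank_range_add_finrank_ker (Matrix.toLin' Q)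
      have h3 := LinearMap.finrank_range_add_finrank_ker (Matrix.toLin' N)
      have h4 : LinearMap.ker (Matrix.toLin' Q) ≤ LinearMap.ker (Matrix.toLin' N) := by
        intro v hv
        rw [LinearMap.mem_ker, Matrix.toLin'_apply] at hv ⊢
        rw [← hNQ, ← mulVec_mulVec, hv, mulVec_zero]
      have h5 := Submodule.finrank_mono h4
      omega
  have hQK : Q * K = K := by
    apply Matrix.mulVec_injective
    funext v
    have h1 : K *ᵥ v ∈ LinearMap.range (Matrix.toLin' Q) := by rw [hrange]; exact ⟨v, by rw [Matrix.toLin'_apply]⟩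
    obtain ⟨v', hv'⟩ := h1
    rw [Matrix.toLin'_apply] at hv'
    rw [← mulVec_mulVec, ← hv', mulVec_mulVec, hQQ]
  have hKNK : K * N * K * σ = (-(2 : F)) • K := by
    have h1 : K * N * K * σ = K * N * σ * K := by rw [mul_assoc (K * N), ← hσK.eq, ← mul_assoc]
    have h3 : K * N * σ = (-(2 : F)) • Q := by
      rw [hQ, smul_smul]
      have : -(2 : F) * -(2 : F)⁻¹ = 1 := by field_simp
      rw [this, one_smul]
    rw [h1, h3, smul_mul_assoc, hQK]
  have hzK : z * K = -K := by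
    rw [hz, add_mul, add_mul, one_mul, mul_assoc (N * K) σ K, hσK.eq, mul_assoc (K * N) σ K, hσK.eq,
      ← mul_assoc, ← mul_assoc, mul_assoc N K K, hKK, mul_zero, zero_mul, add_zero, hKNK, neg_smul, two_smul]
    abel
  -- (vi)
  set x := K *ᵥ v with hx
  have hzx : z *ᵥ x = -x := by rw [hx, mulVec_mulVec, hzK, neg_mulVec]
  set y := lc φ x with hydef
  have hA1 : A = -1 := Matrix.mulVec_injective (funext fun v => by rw [hneg, neg_mulVec, one_mulVec])
  have hByy : B *ᵥ y = y := by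
    have h1 := congrArg (lc φ) hzx
    rw [hzAB, lc_kron, hA1, map_neg] at h1
    have h3 : φ ᵥ* (-1 : Matrix α α F) = (-1 : F) • φ := by rw [vecMul_neg, vecMul_one, neg_one_smul]
    rw [h3] at h1
    have h4 : lc ((-1 : F) • φ) x = - lc φ x := by
      funext j
      simp only [lc_apply, Pi.smul_apply, Pi.neg_apply, smul_eq_mul, neg_mul, one_mul, Finset.sum_neg_distrib]
    rw [h4, mulVec_neg] at h1
    exact neg_injective h1
  obtain ⟨i0⟩ := ‹Nonempty α›
  have hu0 : (Pi.single i0 1 : α → F) ≠ 0 := by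
    intro h
    have := congrFun h i0
    simp at this
  obtain ⟨u', hu'⟩ := key1 (ten (Pi.single i0 1) y) (by rw [hzt, hneg, hByy, ten_neg_left]) (hNt _ _ hy)
  exact ten_parallel hu0 hu'

end Kron

universe u

variable {F : Type u} [Field F] {k t : ℕ} {J : Finset (Fin t)} {M : Subgroup (GLV F k t)}

theorem finrank_range_R (s : Fin t) {e : GLV F k t} (he : RL e) :
    Module.finrank F (LinearMap.range (Matrix.toLin' (R s ((e : Ma F k t) - 1)))) = k ^ (t - 1) := by
  have h1 := LinearMap.finrank_range_add_finrank_ker (Matrix.toLin' (R s ((e : Ma F k t) - 1)))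
  have h2 : LinearMap.ker (Matrix.toLin' (R s ((e : Ma F k t) - 1))) = fixS (RG s e) := by
    rw [map_sub, map_one]; rfl
  rw [h2, finrank_fixS_RG, Module.finrank_fintype_fun_eq_card, Fintype.card_prod, card_Al, Fintype.card_fin,
    ← pow_eq s] at h1
  have h3 := he.cod
  omega

/-- The induction step, odd characteristic. -/
theorem odd_step [Finite F] (hFT : H891.QP.OddOrder.{u}) (hk : 3 ≤ k) (h2 : (2 : F) ≠ 0) (S : St J M)
    (IH : ∀ r ∈ J, M ⊓ CG F k r ≤ W F k t) {s : Fin t} (hs : s ∈ J) : M ≤ W F k t := by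
  have : NeZero k := ⟨by omega⟩
  have : Nonempty (Al k t s) := ⟨fun _ => 0⟩
  have : Nonempty (Fin t → Fin k) := ⟨fun _ => 0⟩
  have hk' : 3 ≤ Fintype.card (Fin k) := by simpa using hk
  obtain ⟨p, hp⟩ := CharP.exists F
  have hpp : p.Prime := CharP.char_is_prime F p
  have : Fintype F := Fintype.ofFinite F
  intro g hg
  by_contra hgW
  obtain ⟨w₀, hw₀⟩ := exists_dual_one (F := F) (k := k) (by omega)
  obtain ⟨ψ₀, hψ₀, h₀, -⟩ := exists_kill_two (F := F) hk' w₀ w₀
  set N' : Ma F k t := sl s (vecMulVec w₀ ψ₀) with hN'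
  set K : Ma F k t := (g : Ma F k t) * N' * ((g⁻¹ : GLV F k t) : Ma F k t) with hK
  have heK : ((g * slG s (tv w₀ ψ₀ h₀) * g⁻¹ : GLV F k t) : Ma F k t) - 1 = K := by
    rw [Units.val_mul, Units.val_mul, coe_slG, coe_tv, map_add, map_one, mul_add, add_mul, mul_one, Units.mul_inv,
      add_sub_cancel_left]
  have hRK := finrank_range_R s ((rl_of_rt (i := s) ⟨w₀, ψ₀, h₀, hw₀, hψ₀, rfl⟩).conj g)
  rw [heK] at hRK
  -- a slice
  obtain ⟨v, φ, hy⟩ : ∃ v φ, lc φ (R s K *ᵥ v) ≠ 0 := by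
    by_contra hcon
    push Not at hcon
    have h1 : R s K = 0 := by
      apply Matrix.mulVec_injective
      funext v
      funext p
      have h3 := congrFun (hcon v (Pi.single p.1 1)) p.2
      rw [zero_mulVec]
      simpa [lc_apply, Pi.single_apply] using h3
    rw [h1, map_zero, LinearMap.range_zero, finrank_bot] at hRK
    exact pow_ne_zero _ (NeZero.ne k) hRK.symm
  set y1 := lc φ (R s K *ᵥ v) with hy1
  obtain ⟨ψ, hψ, hψy, -⟩ := exists_kill_two (F := F) hk' y1 y1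
  obtain ⟨b, w, hby, h0, hbw⟩ := exists_conf hk y1 hψ
  have hw : w ≠ 0 := by rintro rfl; rw [dotProduct_zero] at hbw; exact zero_ne_one hbw
  have hnp : ¬ ∃ c : F, y1 = c • w := by
    rintro ⟨c, hc⟩
    rw [hc, dotProduct_smul, hbw, smul_eq_mul, mul_one] at hby
    rw [hby, zero_smul] at hc
    exact hy hc
  apply hnp
  set N : Ma F k t := sl s (vecMulVec w ψ) with hN
  have hfin : Finite M := inferInstance
  -- unipotents
  have huni : ∀ {w ψ : Fin k → F} (h0 : ψ ⬝ᵥ w = 0) (hs : sl s (vecMulVec w ψ) * sl s (vecMulVec w ψ) = (0 : Ma F k t)),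
      H891.QP.uni (sl s (vecMulVec w ψ) : Ma F k t) hs = slG s (tv w ψ h0) := by
    intro w ψ h0 hs
    apply Units.ext
    rw [H891.QP.uni_val, coe_slG, coe_tv, map_add, map_one]
  have hslW : ∀ x : GL (Fin k) F, slG s x ∈ W F k t := by
    intro x
    refine mem_W_of_LL (by omega) (fun i => ⟨i, fun A => ?_⟩)
    by_cases his : i = s
    · subst his
      refine ⟨(x : Mk F k) * A * ((x⁻¹ : GL (Fin k) F) : Mk F k), ?_⟩
      rw [coe_slG, ← map_mul, ← map_mul]
      congr 1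
      simp [mul_assoc]
    · exact ⟨A, (sl_comm (Ne.symm his) _ _).eq⟩
  have hmem : ∀ {w ψ : Fin k → F} (h0 : ψ ⬝ᵥ w = 0) (l : F)
      (hs' : (l • sl s (vecMulVec w ψ)) * (l • sl s (vecMulVec w ψ)) = (0 : Ma F k t)),
      H891.QP.uni (l • sl s (vecMulVec w ψ) : Ma F k t) hs' ∈ M ⊓ W F k t := by
    intro w ψ h0 l hs'
    have h3 : (l • sl s (vecMulVec w ψ) : Ma F k t) = sl s (vecMulVec (l • w) ψ) := by
      rw [smul_vecMulVec, map_smul]
    have h4 : ψ ⬝ᵥ (l • w) = 0 := by rw [dotProduct_smul, h0, smul_zero]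
    have h5 : H891.QP.uni (l • sl s (vecMulVec w ψ) : Ma F k t) hs' = slG s (tv (l • w) ψ h4) := by
      apply Units.ext
      rw [H891.QP.uni_val, coe_slG, coe_tv, map_add, map_one, h3]
    rw [h5]
    exact ⟨S.hx s hs _ _ _, hslW _⟩
  have hti : ∀ {w ψ : Fin k → F} (h0 : ψ ⬝ᵥ w = 0) (_ : w ≠ 0) (_ : ψ ≠ 0)
      (hs' : (sl s (vecMulVec w ψ)) * (sl s (vecMulVec w ψ)) = (0 : Ma F k t)), ∀ g ∈ M,
      g * H891.QP.uni (sl s (vecMulVec w ψ) : Ma F k t) hs' * g⁻¹ ∈ M ⊓ W F k t → g ∈ M ⊓ W F k t := by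
    intro w ψ h0 hw hψ hs' g hg h
    rw [huni h0] at h
    exact ⟨hg, TI hk S IH hs h0 hw hψ hg h.2⟩
  have hcen : ∀ {w ψ : Fin k → F} (h0 : ψ ⬝ᵥ w = 0) (_ : w ≠ 0) (_ : ψ ≠ 0), ∀ g ∈ M,
      Commute (g : Ma F k t) (sl s (vecMulVec w ψ)) → g ∈ M ⊓ W F k t := by
    intro w ψ h0 hw hψ g hg h
    refine hti h0 hw hψ (sl_mul_self_zero h0) g hg ?_
    rw [huni h0]
    have : g * slG s (tv w ψ h0) * g⁻¹ = slG s (tv w ψ h0) := by
      rw [mul_inv_eq_iff_eq_mul]
      apply Units.ext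
      rw [Units.val_mul, Units.val_mul, coe_slG, coe_tv, map_add, map_one]
      exact (Commute.add_right (Commute.one_right _) h).eq
    rw [this]
    exact ⟨S.hx s hs _ _ _, hslW _⟩
  obtain ⟨z, hzH, -, hzz, hz1, hzN, hzK, σ, hσN, hσK, hzeq⟩ :=
    H891.QP.pair_invol (F := F) (A := Ma F k t) hFT hpp h2 M (M ⊓ W F k t) inf_le_left
      (N := N) (N' := N') (sl_mul_self_zero h0) (sl_mul_self_zero h₀) (fun l => hmem h0 l _) (fun l => hmem h₀ l _)
      (hti h0 hw hψ _) (hti h₀ hw₀ hψ₀ _) (hcen h0 hw hψ) (hcen h₀ hw₀ hψ₀) hg (fun h => hgW h.2) hK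
  obtain ⟨⟨a, b'⟩, hab⟩ := kr_of_nm (stab hk (S.hx s hs) (S.nk s hs) hw hψ hzH.1 ⟨_, hzN.eq⟩)
  have hRab : R s (z : Ma F k t) = (a : Matrix (Al k t s) (Al k t s) F) ⊗ₖ (b' : Mk F k) := by
    rw [← coe_RG, ← hab, coe_kr]
  have hRN := finrank_range_R (F := F) s (rl_of_rt (i := s) ⟨w, ψ, h0, hw, hψ, rfl⟩)
  have heN : ((slG s (tv w ψ h0) : GLV F k t) : Ma F k t) - 1 = N := by
    rw [coe_slG, coe_tv, map_add, map_one, add_sub_cancel_left]
  rw [heN] at hRN
  refine odd_final (N := R s N) (K := R s K) (σ := R s σ) (z := R s (z : Ma F k t)) hk h2 h0 hw hψ (R_sl s _) ?_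
    (by rw [hRK, hRN]) hRab ?_ ?_ (hzN.map (R s)) (hσN.map (R s)) (hσK.map (R s)) ?_ v φ hψy
  · have : K * K = 0 := H891.QP.sq_conj (sl_mul_self_zero h₀) g
    rw [← map_mul, this, map_zero]
  · rw [← map_mul, ← Units.val_mul, hzz, Units.val_one, map_one]
  · intro h
    apply hz1
    apply Units.ext
    apply (R s).injective
    rw [h, Units.val_one, map_one]
  · rw [hzeq, map_add, map_add, map_one, map_mul (R s) (N * K) σ, map_mul (R s) N K, map_mul (R s) (K * N) σ,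
      map_mul (R s) K N]

end Cfsg.Agent.H205.C7
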