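import Cfsg.Agent.H205.C7.Stab

/-!
# Root-like elements, the dichotomy for root-like elements normalising a slot, uniqueness of the slot
-/

set_option autoImplicit false
set_option linter.unusedSectionVars false

namespace Cfsg.Agent.H205.C7

open Matrix Cfsg.Agent.H889 Cfsg.Agent.H872 Cfsg.Agent.H873
open scoped Kronecker MatrixGroups

variable {F : Type*} [Field F] {k t : ℕ}

theorem card_Al (i : Fin t) : Fintype.card (Al k t i) = k ^ (t - 1) := by
  rw [Fintype.card_fun, Fintype.card_fin, Fintype.card_subtype_compl, Fintype.card_fin, Fintype.card_subtype_eq]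

theorem pow_eq (i : Fin t) : k ^ t = k ^ (t - 1) * k := by
  have : t - 1 + 1 = t := by have := i.2; omega
  rw [← pow_succ, this]

/-- `e - 1` has square zero and rank `k^(t-1)`. -/
structure RL (e : GLV F k t) : Prop where
  cod : Module.finrank F (fixS e) + k ^ (t - 1) = k ^ t
  sq : ((e : Ma F k t) - 1) * ((e : Ma F k t) - 1) = 0

theorem RL.conj {e : GLV F k t} (h : RL e) (g : GLV F k t) : RL (g * e * g⁻¹) := by
  refine ⟨by rw [finrank_fixS_conj]; exact h.cod, ?_⟩
  have h1 : ((g * e * g⁻¹ : GLV F k t) : Ma F k t) - 1 = (g : Ma F k t) * ((e : Ma F k t) - 1) * ((g⁻¹ : GLV F k t) : Ma F k t) := by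
    rw [Units.val_mul, Units.val_mul, mul_sub, sub_mul, mul_one, Units.mul_inv]
  rw [h1]
  calc (g : Ma F k t) * ((e : Ma F k t) - 1) * ((g⁻¹ : GLV F k t) : Ma F k t) *
        ((g : Ma F k t) * ((e : Ma F k t) - 1) * ((g⁻¹ : GLV F k t) : Ma F k t))
      = (g : Ma F k t) * (((e : Ma F k t) - 1) * (((g⁻¹ : GLV F k t) : Ma F k t) * (g : Ma F k t)) * ((e : Ma F k t) - 1)) *
        ((g⁻¹ : GLV F k t) : Ma F k t) := by simp only [mul_assoc]
    _ = 0 := by rw [Units.inv_mul, mul_one, h.sq, mul_zero, zero_mul]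

theorem finrank_fixS_RG (i : Fin t) (g : GLV F k t) :
    Module.finrank F (fixS (RG i g)) = Module.finrank F (fixS g) := by
  let f : ((Fin t → Fin k) → F) ≃ₗ[F] (Al k t i × Fin k → F) := LinearEquiv.funCongrLeft F F (ei i).symm
  have h : fixS (RG i g) = (fixS g).map f.toLinearMap := by
    have hf : ∀ v, ((RG i g : GL (Al k t i × Fin k) F) : Matrix _ _ F) *ᵥ (f v) = f ((g : Ma F k t) *ᵥ v) := by
      intro v
      rw [coe_RG]
      have h1 : R i (g : Ma F k t) = ((g : Ma F k t)).submatrix (ei i).symm (ei i).symm := rfl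
      have h2 : f v = v ∘ (ei i).symm := rfl
      have h3 : f ((g : Ma F k t) *ᵥ v) = ((g : Ma F k t) *ᵥ v) ∘ (ei i).symm := rfl
      rw [h1, h2, h3, Matrix.submatrix_mulVec_equiv]
      simp [Function.comp_def]
    ext v
    obtain ⟨v, rfl⟩ := f.surjective v
    rw [mem_fixS, hf]
    constructor
    · intro h1
      exact ⟨v, mem_fixS.2 (f.injective h1), rfl⟩
    · rintro ⟨v', hv', h1⟩
      have h2 : v' = v := f.injective h1
      subst h2
      rw [mem_fixS.1 hv']
  rw [h]
  exact LinearEquiv.finrank_map_eq f _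

theorem rl_of_rt {i : Fin t} {e : GLV F k t} [NeZero k] (h : Rt i e) : RL e := by
  obtain ⟨w, ψ, h0, hw, hψ, rfl⟩ := h
  have : Nonempty (Al k t i) := ⟨fun _ => 0⟩
  refine ⟨?_, ?_⟩
  · rw [← finrank_fixS_RG i, RG_slG]
    have h1 := finrank_fixS_rt (α := Al k t i) h0 hw hψ
    rw [card_Al, Fintype.card_fin, ← pow_eq i] at h1
    exact h1
  · rw [coe_slG, coe_tv, map_add, map_one, add_sub_cancel_left, ← map_mul, vecMulVec_mul_vecMulVec, h0, zero_smul,
      vecMulVec_zero, map_zero]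

theorem units_scalar_mul {ι : Type} [Fintype ι] [DecidableEq ι] [Nonempty ι] {A : GL ι F} {c : F}
    (hc : (A : Matrix ι ι F) = c • (1 : Matrix ι ι F)) : c ≠ 0 := by
  rintro rfl
  obtain ⟨i⟩ := ‹Nonempty ι›
  have h3 : ((A : Matrix ι ι F) * ((A⁻¹ : GL ι F) : Matrix ι ι F)) i i = 1 := by
    rw [← Units.val_mul, mul_inv_cancel]; simp
  rw [hc] at h3
  simp at h3

/-- `1 ⊗ B` which is root-like is a root element. -/
theorem rt_of_slG {i : Fin t} {B : GL (Fin k) F} [NeZero k] (h : RL (slG i B : GLV F k t)) :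
    Rt i (slG i B : GLV F k t) := by
  have : Nonempty (Al k t i) := ⟨fun _ => 0⟩
  have h1 := h.cod
  rw [← finrank_fixS_RG i, RG_slG, finrank_fixS_one_kr, card_Al, pow_eq i, ← mul_add_one] at h1
  have h2 := Nat.eq_of_mul_eq_mul_left (Nat.pos_of_ne_zero (pow_ne_zero _ (NeZero.ne k))) h1
  obtain ⟨w, ψ, hwψ⟩ := exists_vecMulVec_of_finrank_ker (N := (B : Mk F k) - 1) (by
    rw [Fintype.card_fin]; exact h2.ge)
  have hB : (B : Mk F k) = 1 + vecMulVec w ψ := by rw [← hwψ]; abel
  have h3 : vecMulVec w ψ * vecMulVec w ψ = (0 : Mk F k) := by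
    apply sl_injective (k := k) i
    have h4 := h.sq
    rw [coe_slG, hB, map_add, map_one, add_sub_cancel_left, ← map_mul] at h4
    rw [h4, map_zero]
  have hw : w ≠ 0 := by
    rintro rfl
    have : (B : Mk F k) = 1 := by rw [hB]; simp
    have h5 : fixS B = ⊤ := by
      rw [eq_top_iff]; intro v _; rw [mem_fixS, this, one_mulVec]
    rw [h5, finrank_top, Module.finrank_fintype_fun_eq_card, Fintype.card_fin] at h2
    omega
  have hψ : ψ ≠ 0 := by
    rintro rfl
    have : (B : Mk F k) = 1 := by rw [hB]; simp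
    have h5 : fixS B = ⊤ := by
      rw [eq_top_iff]; intro v _; rw [mem_fixS, this, one_mulVec]
    rw [h5, finrank_top, Module.finrank_fintype_fun_eq_card, Fintype.card_fin] at h2
    omega
  have h0 : ψ ⬝ᵥ w = 0 := by
    rw [vecMulVec_mul_vecMulVec] at h3
    obtain ⟨a, ha⟩ := Function.ne_iff.1 hw
    obtain ⟨b, hb⟩ := Function.ne_iff.1 hψ
    have h5 := congrFun (congrFun h3 a) b
    simp only [vecMulVec_apply, Pi.smul_apply, Matrix.zero_apply, smul_eq_mul] at h5
    rcases mul_eq_zero.1 h5 with h6 | h6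
    · exact absurd h6 ha
    · rcases mul_eq_zero.1 h6 with h7 | h7
      · exact h7
      · exact absurd h7 hb
  refine ⟨w, ψ, h0, hw, hψ, ?_⟩
  congr 1
  apply Units.ext
  rw [coe_tv, hB]

/-- **Dichotomy** (L1): a root-like element normalising slot `i` centralises it or is a root element of slot `i`. -/
theorem dich (hk : 3 ≤ k) {i : Fin t} {e : GLV F k t} (h : RL e) (hn : Nm i e) :
    (∀ A : Mk F k, Commute (e : Ma F k t) (sl i A)) ∨ Rt i e := by
  have : NeZero k := ⟨by omega⟩
  have : Nonempty (Al k t i) := ⟨fun _ => 0⟩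
  have : Nonempty (Fin k) := ⟨0⟩
  obtain ⟨⟨A, B⟩, hx⟩ := kr_of_nm hn
  by_cases hB : ∃ c : F, (B : Mk F k) = c • (1 : Mk F k)
  · left
    obtain ⟨c, hc⟩ := hB
    rw [comm_iff_R]
    refine ⟨c • (A : Matrix (Al k t i) (Al k t i) F), ?_⟩
    rw [← coe_RG, ← hx, coe_kr, hc, kronecker_smul, smul_kronecker]
  · right
    obtain ⟨c, hc⟩ := scalar_of_codim (by simpa using hk) hB (by
      rw [hx, finrank_fixS_RG, card_Al, Fintype.card_fin, ← pow_eq i]; exact h.cod)
    have hc0 := units_scalar_mul hc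
    have he : e = slG i (Units.mk0 c hc0 • B) := by
      apply (RG i).injective
      rw [RG_slG, ← hx]
      apply Units.ext
      have h1 : ((Units.mk0 c hc0 • B : GL (Fin k) F) : Mk F k) = c • (B : Mk F k) := rfl
      rw [coe_kr, coe_kr, hc, h1, Units.val_one, smul_kronecker, kronecker_smul]
    rw [he] at h ⊢
    exact rt_of_slG h

end Cfsg.Agent.H205.C7
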