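import Cfsg.Agent.H889.TensorPow
import Cfsg.Agent.H872.KronStab
import Cfsg.Agent.H872.KronRank

/-!
# The slot algebras of a tensor power `F^(Fin t → Fin k)`

`sl i : Matrix (Fin k) (Fin k) F →ₐ[F] Matrix (Fin t → Fin k) (Fin t → Fin k) F`, centralisers of slot algebras, the
splitting `R i` as a Kronecker product `(other slots) ⊗ (slot i)`.
-/

set_option autoImplicit false
set_option linter.unusedSectionVars false

namespace Cfsg.Agent.H205.C7

open Matrix Cfsg.Agent.H889 Cfsg.Agent.H872 Cfsg.Agent.H873
open scoped Kronecker MatrixGroups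

variable {F : Type*} [Field F] {k t : ℕ}

/-- Matrices on the tensor power. -/
abbrev Ma (F : Type*) (k t : ℕ) := Matrix (Fin t → Fin k) (Fin t → Fin k) F
abbrev Mk (F : Type*) (k : ℕ) := Matrix (Fin k) (Fin k) F
abbrev GLV (F : Type*) [Field F] (k t : ℕ) := GL (Fin t → Fin k) F
abbrev Al (k t : ℕ) (i : Fin t) := ({j : Fin t // j ≠ i} → Fin k)

theorem slot_zero (i : Fin t) : slot i (0 : Mk F k) = 0 := by
  have := slot_smul i (0 : F) (0 : Mk F k)
  rwa [zero_smul, zero_smul] at this

/-- The slot algebra. -/
def sl (i : Fin t) : Mk F k →ₐ[F] Ma F k t where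
  toFun := slot i
  map_one' := slot_one i
  map_mul' A B := (slot_mul i A B).symm
  map_zero' := slot_zero i
  map_add' := slot_add i
  commutes' c := by
    rw [Algebra.algebraMap_eq_smul_one, Algebra.algebraMap_eq_smul_one, slot_smul_one]

theorem sl_eq (i : Fin t) (A : Mk F k) : sl i A = slot i A := rfl

theorem sl_apply (i : Fin t) (A : Mk F k) (a b : Fin t → Fin k) :
    sl i A a b = if (∀ j, j ≠ i → a j = b j) then A (a i) (b i) else 0 := by
  rw [sl_eq, slot, pm_apply]
  split_ifs with h
  · rw [Finset.prod_eq_single i]
    · rw [Function.update_self]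
    · intro j _ hj
      rw [Function.update_of_ne hj, h j hj, Matrix.one_apply_eq]
    · intro h'; exact absurd (Finset.mem_univ _) h'
  · push Not at h
    obtain ⟨j, hj, hab⟩ := h
    refine Finset.prod_eq_zero (Finset.mem_univ j) ?_
    rw [Function.update_of_ne hj, Matrix.one_apply_ne hab]

theorem sl_comm {i j : Fin t} (hij : i ≠ j) (A B : Mk F k) : Commute (sl i A : Ma F k t) (sl j B) :=
  slot_comm hij A B

theorem sl_injective [NeZero k] (i : Fin t) : Function.Injective (sl (F := F) (k := k) i) := by
  intro A B h
  ext p q
  have h1 := congrFun (congrFun h (fun _ => p)) (Function.update (fun _ => p) i q)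
  rw [sl_apply, sl_apply, if_pos, if_pos] at h1
  · simpa using h1
  · intro j hj; rw [Function.update_of_ne hj]
  · intro j hj; rw [Function.update_of_ne hj]

/-- The elementary computation for commuting with slot `j`. -/
theorem entry_of_comm {x : Ma F k t} {j : Fin t} (h : ∀ A : Mk F k, Commute x (sl j A)) (a b : Fin t → Fin k) (q : Fin k) :
    x a b = if a j = b j then x (Function.update a j q) (Function.update b j q) else 0 := by
  -- entry (a, b[j := ?])
  have key : ∀ (p q' : Fin k) (a b : Fin t → Fin k),
      (if b j = q' then x a (Function.update b j p) else 0) =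
        (if a j = p then x (Function.update a j q') b else 0) := by
    intro p q' a b
    have h1 := congrFun (congrFun (h (Matrix.single p q' 1)).eq a) b
    rw [Matrix.mul_apply, Matrix.mul_apply, Finset.sum_eq_single (Function.update b j p),
      Finset.sum_eq_single (Function.update a j q')] at h1
    · rw [sl_apply, sl_apply, if_pos, if_pos] at h1
      · simp only [Function.update_self, Matrix.single_apply, true_and, and_true] at h1
        rw [mul_ite, ite_mul, mul_one, mul_zero, one_mul, zero_mul] at h1
        exact (if_congr eq_comm rfl rfl).trans (h1.trans (if_congr eq_comm rfl rfl))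
      · intro l hl; rw [Function.update_of_ne hl]
      · intro l hl; rw [Function.update_of_ne hl]
    · intro c _ hc
      rw [sl_apply]
      split_ifs with h2
      · have h3 : c j ≠ q' := by
          intro h3
          apply hc
          funext l
          by_cases hl : l = j
          · subst hl; rw [h3, Function.update_self]
          · rw [Function.update_of_ne hl, h2 l hl]
        rw [Matrix.single_apply, if_neg (fun h => h3 h.2.symm), zero_mul]
      · rw [zero_mul]
    · intro h'; exact absurd (Finset.mem_univ _) h'
    · intro c _ hc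
      rw [sl_apply]
      split_ifs with h2
      · have h3 : c j ≠ p := by
          intro h3
          apply hc
          funext l
          by_cases hl : l = j
          · subst hl; rw [h3, Function.update_self]
          · rw [Function.update_of_ne hl, h2 l hl]
        rw [Matrix.single_apply, if_neg (fun h => h3 h.1.symm), mul_zero]
      · rw [mul_zero]
    · intro h'; exact absurd (Finset.mem_univ _) h'
  have h1 := key (b j) q a (Function.update b j q)
  rw [Function.update_self, if_pos rfl, Function.update_idem, Function.update_eq_self] at h1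
  exact h1

/-- Commuting with a set of slots. -/
theorem entry_of_comm_set {x : Ma F k t} (L : Finset (Fin t)) (h : ∀ j ∈ L, ∀ A : Mk F k, Commute x (sl j A))
    (c : Fin t → Fin k) (a b : Fin t → Fin k) :
    x a b = if (∀ j ∈ L, a j = b j) then x (fun j => if j ∈ L then c j else a j) (fun j => if j ∈ L then c j else b j)
      else 0 := by
  classical
  induction L using Finset.induction_on generalizing a b with
  | empty => simp
  | insert l L hl ih =>
    have h1 := ih (fun j hj => h j (Finset.mem_insert_of_mem hj)) a b
    rw [h1]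
    by_cases h2 : ∀ j ∈ L, a j = b j
    · rw [if_pos h2, entry_of_comm (h l (Finset.mem_insert_self l L)) _ _ (c l), if_neg hl, if_neg hl]
      by_cases h3 : a l = b l
      · rw [if_pos h3, if_pos]
        · have h4 : ∀ a : Fin t → Fin k, Function.update (fun j => if j ∈ L then c j else a j) l (c l) =
              fun j => if j ∈ insert l L then c j else a j := by
            intro a
            funext j
            by_cases hj : j = l
            · subst hj; simp
            · rw [Function.update_of_ne hj]
              simp [hj]
          rw [h4, h4]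
        · intro j hj
          rcases Finset.mem_insert.1 hj with rfl | hj
          · exact h3
          · exact h2 j hj
      · rw [if_neg h3, if_neg]
        intro h4; exact h3 (h4 l (Finset.mem_insert_self l L))
    · rw [if_neg h2, if_neg]
      intro h4; exact h2 (fun j hj => h4 j (Finset.mem_insert_of_mem hj))

/-- Double centraliser: commuting with all slots except `i`. -/
theorem exists_sl_of_comm [NeZero k] {x : Ma F k t} {i : Fin t} (h : ∀ j, j ≠ i → ∀ A : Mk F k, Commute x (sl j A)) :
    ∃ B : Mk F k, x = sl i B := by
  classical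
  let c : Fin t → Fin k := fun _ => 0
  refine ⟨Matrix.of fun p q => x (Function.update c i p) (Function.update c i q), ?_⟩
  ext a b
  rw [entry_of_comm_set (Finset.univ.erase i) (fun j hj => h j (Finset.ne_of_mem_erase hj)) c a b, sl_apply, Matrix.of_apply]
  have h1 : ∀ a : Fin t → Fin k, (fun j => if j ∈ Finset.univ.erase i then c j else a j) = Function.update c i (a i) := by
    intro a
    funext j
    by_cases hj : j = i
    · subst hj; simp
    · rw [Function.update_of_ne hj, if_pos (Finset.mem_erase.2 ⟨hj, Finset.mem_univ _⟩)]
  simp only [h1]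
  refine if_congr ?_ rfl rfl
  constructor
  · intro h2 j hj; exact h2 j (Finset.mem_erase.2 ⟨hj, Finset.mem_univ _⟩)
  · intro h2 j hj; exact h2 j (Finset.ne_of_mem_erase hj)

/-- Commuting with all slots. -/
theorem exists_scalar_of_comm [NeZero k] {x : Ma F k t} (h : ∀ j, ∀ A : Mk F k, Commute x (sl j A)) :
    ∃ c : F, x = c • (1 : Ma F k t) := by
  classical
  let c : Fin t → Fin k := fun _ => 0
  refine ⟨x c c, ?_⟩
  ext a b
  rw [entry_of_comm_set Finset.univ (fun j _ => h j) c a b, Matrix.smul_apply, Matrix.one_apply]
  simp only [Finset.mem_univ, forall_const, if_true]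
  by_cases hab : a = b
  · rw [if_pos (fun j => by rw [hab]), if_pos hab, smul_eq_mul, mul_one]
  · rw [if_neg (fun h => hab (funext h)), if_neg hab, smul_zero]

/-! ### Splitting -/

/-- Splitting the coordinates: the slots other than `i`, and slot `i`. -/
def ei (i : Fin t) : (Fin t → Fin k) ≃ (Al k t i × Fin k) :=
  (Equiv.funSplitAt i (Fin k)).trans (Equiv.prodComm _ _)

theorem ei_apply (i : Fin t) (a : Fin t → Fin k) : ei i a = ((fun j => a j.1 : Al k t i), a i) := rfl

/-- The matrix algebra as Kronecker products. -/
def R (i : Fin t) : Ma F k t ≃ₐ[F] Matrix (Al k t i × Fin k) (Al k t i × Fin k) F :=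
  Matrix.reindexAlgEquiv F F (ei i)

theorem R_apply (i : Fin t) (x : Ma F k t) (p q : Al k t i × Fin k) :
    R i x p q = x ((ei i).symm p) ((ei i).symm q) := rfl

theorem R_apply' (i : Fin t) (x : Ma F k t) (a b : Fin t → Fin k) : R i x (ei i a) (ei i b) = x a b := by
  rw [R_apply, Equiv.symm_apply_apply, Equiv.symm_apply_apply]

theorem R_sl (i : Fin t) (A : Mk F k) : R i (sl i A) = (1 : Matrix (Al k t i) (Al k t i) F) ⊗ₖ A := by
  ext p q
  obtain ⟨a, rfl⟩ := (ei i).surjective p
  obtain ⟨b, rfl⟩ := (ei i).surjective q
  rw [R_apply', sl_apply, kroneckerMap_apply, ei_apply, ei_apply, Matrix.one_apply]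
  by_cases h : ∀ j, j ≠ i → a j = b j
  · rw [if_pos h, if_pos (funext fun (j : {j : Fin t // j ≠ i}) => h j.1 j.2), one_mul]
  · rw [if_neg h, if_neg, zero_mul]
    intro h'
    exact h (fun j hj => congrFun h' ⟨j, hj⟩)

theorem comm_iff_R (i : Fin t) [NeZero k] (x : Ma F k t) :
    (∀ A : Mk F k, Commute x (sl i A)) ↔ ∃ Y : Matrix (Al k t i) (Al k t i) F, R i x = Y ⊗ₖ (1 : Mk F k) := by
  constructor
  · intro h
    refine ⟨Matrix.of fun p q => R i x (p, 0) (q, 0), ?_⟩
    ext p q
    obtain ⟨a, rfl⟩ := (ei i).surjective p
    obtain ⟨b, rfl⟩ := (ei i).surjective q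
    rw [R_apply', entry_of_comm h a b 0, kroneckerMap_apply, Matrix.one_apply, Matrix.of_apply]
    change _ = R i x ((fun j => a j.1 : Al k t i), 0) ((fun j => b j.1 : Al k t i), 0) * (if a i = b i then 1 else 0)
    have h1 : ∀ a : Fin t → Fin k, (((fun j => a j.1 : Al k t i), 0) : Al k t i × Fin k) = ei i (Function.update a i 0) := by
      intro a
      rw [ei_apply]
      refine Prod.ext ?_ ?_
      · funext j; simp [j.2]
      · simp
    rw [h1, h1, R_apply']
    split_ifs <;> simp
  · rintro ⟨Y, hY⟩ A
    apply (R i).injective
    rw [map_mul, map_mul, R_sl, hY, ← mul_kronecker_mul, ← mul_kronecker_mul, one_mul, mul_one, one_mul, mul_one]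

/-- `R` on the group level. -/
def RG (i : Fin t) : GLV F k t ≃* GL (Al k t i × Fin k) F := Units.mapEquiv (R i).toMulEquiv

theorem coe_RG (i : Fin t) (g : GLV F k t) : (RG i g : Matrix (Al k t i × Fin k) (Al k t i × Fin k) F) = R i (g : Ma F k t) := rfl

/-- Slot elements of the group. -/
def slG (i : Fin t) : GL (Fin k) F →* GLV F k t := Units.map ((sl (F := F) (k := k) i).toRingHom.toMonoidHom)

theorem coe_slG (i : Fin t) (g : GL (Fin k) F) : (slG i g : Ma F k t) = sl i (g : Mk F k) := rfl

theorem RG_slG (i : Fin t) (g : GL (Fin k) F) : RG i (slG i g) = kr (1, g) := by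
  apply Units.ext
  rw [coe_RG, coe_slG, R_sl, coe_kr, Units.val_one]

end Cfsg.Agent.H205.C7
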