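import Cfsg.Agent.H205.C7.Slots

/-!
# The stabiliser of a column `U ⊗ w` in a group containing `1 ⊗ SL(W)`

One-sided version of `H872.mem_range_kr_of_stab`: only `1 ⊗ SL(W) ≤ M` is needed, and that `M` contains no
`1 + Y ⊗ w ψ` with `Y` non-scalar.
-/

set_option autoImplicit false
set_option linter.unusedSectionVars false

namespace Cfsg.Agent.H205.C7

open Matrix Cfsg.Agent.H889 Cfsg.Agent.H872 Cfsg.Agent.H873
open scoped Kronecker MatrixGroups

section Kron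

variable {α β : Type} [Fintype α] [DecidableEq α] [Fintype β] [DecidableEq β] {F : Type*} [Field F]

/-- `M` contains no `1 + Y ⊗ w ψ` with `Y` non-scalar. -/
def NoKr (M : Subgroup (GL (α × β) F)) : Prop :=
  ∀ (Y : Matrix α α F) (w ψ : β → F), w ≠ 0 → ψ ≠ 0 → HasK M Y w ψ → ∃ c : F, Y = c • (1 : Matrix α α F)

variable {M : Subgroup (GL (α × β) F)}
  (hMβ : ∀ (w ψ : β → F) (h : ψ ⬝ᵥ w = 0), kr ((1 : GL α F), tv w ψ h) ∈ M) (hN : NoKr M)

include hMβ hN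

/-- The commutator argument. -/
theorem scalar_Zy (hβ : 3 ≤ Fintype.card β) {w : β → F} (hw : w ≠ 0) {g : GL (α × β) F}
    (hg : ∀ (y ψ : β → F) (hψy : ψ ⬝ᵥ y = 0), ψ ⬝ᵥ w = 0 → g⁻¹ * kr ((1 : GL α F), tv y ψ hψy) * g ∈ M)
    {Z : (α × β → F) →ₗ[F] (α → F)} (hZ1 : ∀ v, (g : Matrix (α × β) (α × β) F) *ᵥ v = v + ten (Z v) w)
    (hZ2 : ∀ u, Z (ten u w) = 0) (y : β → F) : ∃ c : F, Zy Z y = c • (1 : Matrix α α F) := by
  obtain ⟨ψ, hψ, hψw, hψy⟩ := exists_kill_two (F := F) hβ w y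
  have hk := hMβ y ψ hψy
  set k : GL (α × β) F := kr ((1 : GL α F), tv y ψ hψy) with hkdef
  have hkv : ∀ v, (k : Matrix (α × β) (α × β) F) *ᵥ v = v + ten (rc ψ v) y :=
    fun v => rt_mulVec y ψ hψy v
  have hkinv : ∀ v, ((k⁻¹ : GL (α × β) F) : Matrix (α × β) (α × β) F) *ᵥ v =
      v - ten (rc ψ v) y := by
    intro v
    have h2 : (k : Matrix (α × β) (α × β) F) *ᵥ (v - ten (rc ψ v) y) = v := by
      rw [hkv, map_sub, rc_ten, hψy, zero_smul, sub_zero]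
      abel
    conv_lhs => rw [← h2]
    rw [inv_mulVec_mulVec]
  have hginv : ∀ v, ((g⁻¹ : GL (α × β) F) : Matrix (α × β) (α × β) F) *ᵥ v =
      v - ten (Z v) w := by
    intro v
    have h2 : (g : Matrix (α × β) (α × β) F) *ᵥ (v - ten (Z v) w) = v := by
      rw [hZ1, map_sub, hZ2, sub_zero]
      abel
    conv_lhs => rw [← h2]
    rw [inv_mulVec_mulVec]
  have hmem : g⁻¹ * k * g * k⁻¹ ∈ M := M.mul_mem (hg y ψ hψy hψw) (M.inv_mem hk)
  have hK : HasK M (- Zy Z y) w ψ := by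
    refine ⟨hψw, _, hmem, ?_⟩
    apply Matrix.mulVec_injective
    funext v
    rw [add_mulVec, one_mulVec, kron_vecMulVec_mulVec, neg_mulVec, Zy_mulVec, ten_neg_left,
      Units.val_mul, Units.val_mul, Units.val_mul, ← mulVec_mulVec, ← mulVec_mulVec,
      ← mulVec_mulVec, hginv, hkinv, hZ1, hkv]
    simp only [map_sub, map_add, rc_ten, hψw, hψy, zero_smul, sub_zero, add_zero, hZ2]
    rw [ten_sub_left]
    abel_nf
  obtain ⟨c, hc⟩ := hN _ w ψ hw hψ hK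
  exact ⟨-c, by rw [neg_smul, ← hc, neg_neg]⟩

theorem allRt_of_noKr [Nonempty α] (hβ : 3 ≤ Fintype.card β) : AllRt M := by
  intro w hw g hg hu
  obtain ⟨Z, hZ1, hZ2⟩ := exists_Z hw hu
  exact eq_rt_of_scalar hZ1 hZ2 (scalar_Zy hMβ hN hβ hw
    (fun y ψ hψy _ => M.mul_mem (M.mul_mem (M.inv_mem hg) (hMβ y ψ hψy)) hg) hZ1 hZ2)

/-- The stabiliser of a column in `M` consists of Kronecker products. -/
theorem mem_range_kr_of_noKr [Nonempty α] (hβ : 3 ≤ Fintype.card β) {w : β → F} (hw : w ≠ 0)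
    {g : GL (α × β) F} (hg : g ∈ M)
    (hst : ∀ u, ∃ u', (g : Matrix (α × β) (α × β) F) *ᵥ ten u w = ten u' w) :
    ∃ x : GL α F × GL β F, kr x = g := by
  classical
  have hall : AllRt M := allRt_of_noKr hMβ hN hβ
  -- the action X on the column
  obtain ⟨ξ, hξ⟩ := exists_dot_one hw
  rw [dotProduct_comm] at hξ
  let Xl : (α → F) →ₗ[F] (α → F) := rc ξ ∘ₗ Matrix.toLin' (g : Matrix (α × β) (α × β) F) ∘ₗ
    { toFun := fun u => ten u w
      map_add' := fun u u' => ten_add_left u u' w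
      map_smul' := fun c u => ten_smul_left c u w }
  have hX : ∀ u, (g : Matrix (α × β) (α × β) F) *ᵥ ten u w = ten (Xl u) w := by
    intro u
    obtain ⟨u', hu'⟩ := hst u
    have : Xl u = u' := by
      change rc ξ (Matrix.toLin' (g : Matrix (α × β) (α × β) F) (ten u w)) = u'
      rw [Matrix.toLin'_apply, hu', rc_ten, hξ, one_smul]
    rw [this, hu']
  have hXinj : Function.Injective Xl := by
    rw [← LinearMap.ker_eq_bot, LinearMap.ker_eq_bot']
    intro u hu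
    have h1 := hX u
    rw [hu, ten_zero_left] at h1
    have h2 : ten u w = 0 := by
      rw [← inv_mulVec_mulVec g (ten u w), h1, mulVec_zero]
    exact ten_left_injective hw (h2.trans (ten_zero_left w).symm)
  let Xe : (α → F) ≃ₗ[F] (α → F) := LinearEquiv.ofInjectiveEndo Xl hXinj
  have hXe : ∀ u, Xe u = Xl u := fun u => rfl
  let X : GL α F := H905.glOf Xe
  have hXv : ∀ u, (X : Matrix α α F) *ᵥ u = Xl u := fun u => H905.glOf_mulVec Xe u
  -- g₁ = (X⁻¹ ⊗ 1) g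
  let g₁ : GL (α × β) F := (kr (X, (1 : GL β F)))⁻¹ * g
  have hg₁ : ∀ v, (g₁ : Matrix (α × β) (α × β) F) *ᵥ v =
      (kr (X⁻¹, (1 : GL β F)) : Matrix (α × β) (α × β) F) *ᵥ
        ((g : Matrix (α × β) (α × β) F) *ᵥ v) := by
    intro v
    rw [Units.val_mul, ← mulVec_mulVec]
    rfl
  have hg₁w : ∀ u, (g₁ : Matrix (α × β) (α × β) F) *ᵥ ten u w = ten u w := by
    intro u
    rw [hg₁, hX, kr_mulVec_ten, ← hXv, inv_mulVec_mulVec]
    simp
  -- the action on functionals killing w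
  have hpsi : ∀ ψ : β → F, ψ ⬝ᵥ w = 0 → ∃ ψ' : β → F, ψ' ⬝ᵥ w = 0 ∧
      ∀ v, rc ψ' ((g₁ : Matrix (α × β) (α × β) F) *ᵥ v) = rc ψ v := by
    intro ψ hψ
    have hmem : g * rt w ψ hψ * g⁻¹ ∈ M :=
      M.mul_mem (M.mul_mem hg (hMβ w ψ hψ)) (M.inv_mem hg)
    have hact : ∀ v, ((g * rt w ψ hψ * g⁻¹ : GL (α × β) F) : Matrix (α × β) (α × β) F) *ᵥ v =
        v + ten (Xl (rc ψ (((g⁻¹ : GL (α × β) F) : Matrix (α × β) (α × β) F) *ᵥ v))) w := by
      intro v
      rw [Units.val_mul, Units.val_mul, ← mulVec_mulVec, ← mulVec_mulVec, rt_mulVec, mulVec_add,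
        mulVec_inv_mulVec, hX]
    have huc : IsUc w (g * rt w ψ hψ * g⁻¹) := by
      refine ⟨fun v => ?_, fun u => ?_⟩
      · rw [hact, add_sub_cancel_left]
        exact ten_mem_col _ _
      · rw [hact]
        have h1 : ((g⁻¹ : GL (α × β) F) : Matrix (α × β) (α × β) F) *ᵥ ten u w =
            ten (Xe.symm u) w := by
          have h2 : ten u w = (g : Matrix (α × β) (α × β) F) *ᵥ ten (Xe.symm u) w := by
            rw [hX, ← hXe, LinearEquiv.apply_symm_apply]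
          rw [h2, inv_mulVec_mulVec]
        rw [h1, rc_ten, hψ, zero_smul, map_zero, ten_zero_left, add_zero]
    obtain ⟨ψ', h0, h1⟩ := hall w hw _ hmem huc
    refine ⟨ψ', h0, fun v => ?_⟩
    have h2 := hact ((g : Matrix (α × β) (α × β) F) *ᵥ v)
    rw [h1, rt_mulVec, inv_mulVec_mulVec] at h2
    have h3 := ten_left_injective hw (add_left_cancel h2)
    rw [hg₁, coe_kr, rc_kron, Units.val_one, vecMul_one, h3, ← hXv, inv_mulVec_mulVec]
  -- the map β on W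
  obtain ⟨i0⟩ := ‹Nonempty α›
  let e0 : α → F := Pi.single i0 1
  have he00 : e0 ⬝ᵥ e0 = 1 := by simp [e0]
  let Bl : (β → F) →ₗ[F] (β → F) := lc e0 ∘ₗ Matrix.toLin' (g₁ : Matrix (α × β) (α × β) F) ∘ₗ
    { toFun := fun y => ten e0 y
      map_add' := fun u u' => ten_add_right e0 u u'
      map_smul' := fun c u => ten_smul_right c e0 u }
  have hBl : ∀ y, Bl y = lc e0 ((g₁ : Matrix (α × β) (α × β) F) *ᵥ ten e0 y) := by
    intro y
    change lc e0 (Matrix.toLin' (g₁ : Matrix (α × β) (α × β) F) (ten e0 y)) = _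
    rw [Matrix.toLin'_apply]
  have hBw : Bl w = w := by
    rw [hBl, hg₁w, lc_ten, he00, one_smul]
  have hlcrc : ∀ (φ : α → F) (ψ : β → F) (v : α × β → F), ψ ⬝ᵥ lc φ v = φ ⬝ᵥ rc ψ v := by
    intro φ ψ v
    simp only [dotProduct, lc_apply, rc_apply, Finset.mul_sum]
    rw [Finset.sum_comm]
    exact Finset.sum_congr rfl fun i _ => Finset.sum_congr rfl fun j _ => by ring
  have hBpsi : ∀ ψ ψ' : β → F,
      (∀ v, rc ψ' ((g₁ : Matrix (α × β) (α × β) F) *ᵥ v) = rc ψ v) →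
      ∀ y, ψ' ⬝ᵥ Bl y = ψ ⬝ᵥ y := by
    intro ψ ψ' h y
    rw [hBl, hlcrc, h, rc_ten, dotProduct_smul, he00, smul_eq_mul, mul_one]
  have hBinj : Function.Injective Bl := by
    rw [← LinearMap.ker_eq_bot, LinearMap.ker_eq_bot']
    intro y hy
    by_cases hyw : ∃ c : F, y = c • w
    · obtain ⟨c, hc⟩ := hyw
      rw [hc, map_smul, hBw] at hy
      rw [hc, hy]
    · exfalso
      obtain ⟨ψ, h1, h2⟩ := exists_dot_pair hyw
      obtain ⟨ψ', -, h3⟩ := hpsi ψ h2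
      have h4 := hBpsi ψ ψ' h3 y
      rw [hy, dotProduct_zero, h1] at h4
      exact zero_ne_one h4
  let Be : (β → F) ≃ₗ[F] (β → F) := LinearEquiv.ofInjectiveEndo Bl hBinj
  let B : GL β F := H905.glOf Be
  have hBv : ∀ u, (B : Matrix β β F) *ᵥ u = Bl u := fun u => H905.glOf_mulVec Be u
  -- g₂ = (1 ⊗ B⁻¹) g₁
  let g₂ : GL (α × β) F := (kr ((1 : GL α F), B))⁻¹ * g₁
  have hg₂ : ∀ v, (g₂ : Matrix (α × β) (α × β) F) *ᵥ v =
      (kr ((1 : GL α F), B⁻¹) : Matrix (α × β) (α × β) F) *ᵥ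
        ((g₁ : Matrix (α × β) (α × β) F) *ᵥ v) := by
    intro v
    rw [Units.val_mul, ← mulVec_mulVec]
    rfl
  have hBiw : ((B⁻¹ : GL β F) : Matrix β β F) *ᵥ w = w := by
    conv_lhs => rw [← hBw, ← hBv]
    rw [inv_mulVec_mulVec]
  have hg₂w : ∀ u, (g₂ : Matrix (α × β) (α × β) F) *ᵥ ten u w = ten u w := by
    intro u
    rw [hg₂, hg₁w, kr_mulVec_ten, hBiw]
    simp
  -- vectors with all rc ψ v = 0, ψ w = 0, lie in col w
  have hcol : ∀ v : α × β → F, (∀ ψ : β → F, ψ ⬝ᵥ w = 0 → rc ψ v = 0) → v ∈ H872.col w := by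
    intro v hv
    refine mem_col.2 ⟨rc ξ v, ?_⟩
    funext p
    -- ψ = e_p - w_p ξ
    have h1 := hv (Pi.single p.2 1 - w p.2 • ξ) (by
      rw [sub_dotProduct, smul_dotProduct, hξ]; simp)
    have h2 := congrFun h1 p.1
    rw [rc_apply] at h2
    simp only [Pi.sub_apply, Pi.smul_apply, smul_eq_mul, sub_mul, Finset.sum_sub_distrib,
      Pi.zero_apply] at h2
    rw [Finset.sum_eq_single p.2 (by intro j _ hj; simp [hj]) (by
      intro h; exact absurd (Finset.mem_univ _) h)] at h2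
    rw [ten_apply, rc_apply, Finset.sum_mul]
    simp only [Pi.single_eq_same, one_mul] at h2
    rw [sub_eq_zero] at h2
    change _ = v (p.1, p.2)
    rw [h2]
    exact Finset.sum_congr rfl fun j _ => by ring
  have huc : IsUc w g₂ := by
    refine ⟨fun v => ?_, hg₂w⟩
    -- first for g₁ and B
    have h1 : ∀ v, (g₁ : Matrix (α × β) (α × β) F) *ᵥ v -
        (kr ((1 : GL α F), B) : Matrix (α × β) (α × β) F) *ᵥ v ∈ H872.col w := by
      intro v
      refine hcol _ fun ψ' hψ' => ?_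
      -- ψ' comes from some ψ: surjectivity
      rw [map_sub, coe_kr, rc_kron, Units.val_one, one_mulVec]
      -- set ψ := ψ' ∘ B
      set ψ := ψ' ᵥ* (B : Matrix β β F) with hψdef
      have hψw : ψ ⬝ᵥ w = 0 := by
        rw [hψdef, ← dotProduct_mulVec, hBv, hBw, hψ']
      obtain ⟨ψ'', h0, h2⟩ := hpsi ψ hψw
      have h3 : ψ'' = ψ' := by
        have h4 : ∀ y, ψ'' ⬝ᵥ y = ψ' ⬝ᵥ y := by
          intro y
          obtain ⟨z, rfl⟩ := Be.surjective y
          have h5 : Be z = Bl z := rfl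
          rw [h5, hBpsi ψ ψ'' h2, hψdef, ← dotProduct_mulVec, hBv]
        funext j
        simpa using h4 (Pi.single j 1)
      rw [← h3, h2, sub_self]
    obtain ⟨x, hx⟩ := mem_col.1 (h1 v)
    refine mem_col.2 ⟨x, ?_⟩
    have h2 : (g₁ : Matrix (α × β) (α × β) F) *ᵥ v =
        (kr ((1 : GL α F), B) : Matrix (α × β) (α × β) F) *ᵥ v + ten x w := by
      rw [hx]; abel
    rw [hg₂, h2, mulVec_add, kr_mulVec_ten, hBiw]
    have h3 : (kr ((1 : GL α F), B⁻¹) : Matrix (α × β) (α × β) F) *ᵥ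
        ((kr ((1 : GL α F), B) : Matrix (α × β) (α × β) F) *ᵥ v) = v := by
      rw [mulVec_mulVec, ← Units.val_mul, ← map_mul]
      simp [kr_one_one]
    rw [h3]
    simp
  obtain ⟨Z, hZ1, hZ2⟩ := exists_Z hw huc
  have hg₂inv : ∀ v, ((g₂⁻¹ : GL (α × β) F) : Matrix (α × β) (α × β) F) *ᵥ v =
      v - ten (Z v) w := by
    intro v
    have h2 : (g₂ : Matrix (α × β) (α × β) F) *ᵥ (v - ten (Z v) w) = v := by
      rw [hZ1, map_sub, hZ2, sub_zero]
      abel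
    conv_lhs => rw [← h2]
    rw [inv_mulVec_mulVec]
  have hgeq : g = kr (X, B) * g₂ := by
    have h1 : kr (X, B) = kr (X, (1 : GL β F)) * kr ((1 : GL α F), B) := by
      rw [← map_mul]; simp
    rw [h1]
    change g = kr (X, (1 : GL β F)) * kr ((1 : GL α F), B) *
      ((kr ((1 : GL α F), B))⁻¹ * ((kr (X, (1 : GL β F)))⁻¹ * g))
    group
  have hscal : ∀ y, ∃ c : F, Zy Z y = c • (1 : Matrix α α F) := by
    refine scalar_Zy hMβ hN hβ hw ?_ hZ1 hZ2
    intro y ψ hψy hψw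
    -- g₂⁻¹ kr(1, t) g₂ = g⁻¹ kr(1, B t B⁻¹) g
    have hd : (ψ ᵥ* ((B⁻¹ : GL β F) : Matrix β β F)) ⬝ᵥ ((B : Matrix β β F) *ᵥ y) = 0 := by
      rw [← dotProduct_mulVec, inv_mulVec_mulVec, hψy]
    have h1 : kr ((1 : GL α F), B * tv y ψ hψy * B⁻¹) ∈ M := by
      have h2 := hMβ _ _ hd
      have h3 : tv ((B : Matrix β β F) *ᵥ y) (ψ ᵥ* ((B⁻¹ : GL β F) : Matrix β β F)) hd = B * tv y ψ hψy * B⁻¹ := by
        apply Units.ext
        rw [Units.val_mul, Units.val_mul, coe_tv, coe_tv, mul_add, add_mul, mul_one, ← Units.val_mul,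
          mul_inv_cancel, Units.val_one, mul_vecMulVec, vecMulVec_mul]
      rwa [h3] at h2
    have h2 : (kr (X, B))⁻¹ * kr ((1 : GL α F), B * tv y ψ hψy * B⁻¹) * kr (X, B) =
        kr ((1 : GL α F), tv y ψ hψy) := by
      rw [← map_inv, ← map_mul, ← map_mul]
      congr 1
      ext : 1
      · simp
      · simp [mul_assoc]
    have h3 : g₂⁻¹ * kr ((1 : GL α F), tv y ψ hψy) * g₂ =
        g⁻¹ * kr ((1 : GL α F), B * tv y ψ hψy * B⁻¹) * g := by
      rw [hgeq, ← h2]; group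
    rw [h3]
    exact M.mul_mem (M.mul_mem (M.inv_mem hg) h1) hg
  obtain ⟨ψ, h0, h1⟩ := eq_rt_of_scalar hZ1 hZ2 hscal
  refine ⟨(X, B * tv w ψ h0), ?_⟩
  rw [hgeq, h1, rt, ← map_mul]
  simp

omit hMβ hN in
/-- If `A ⊗ B - 1` has rank `card α` and `B` is not scalar, then `A` is scalar (`card β ≥ 3`). -/
theorem scalar_of_codim (hβ : 3 ≤ Fintype.card β) {A : GL α F} {B : GL β F}
    (hB : ¬ ∃ c : F, (B : Matrix β β F) = c • (1 : Matrix β β F))
    (hd : Module.finrank F (fixS (kr (A, B))) + Fintype.card α = Fintype.card α * Fintype.card β) :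
    ∃ c : F, (A : Matrix α α F) = c • (1 : Matrix α α F) := by
  classical
  obtain ⟨u, φ, hφu, hφB⟩ : ∃ u φ : β → F, φ ⬝ᵥ u = 0 ∧ φ ⬝ᵥ ((B : Matrix β β F) *ᵥ u) ≠ 0 := by
    by_contra hcon
    push Not at hcon
    exact hB (exists_scalar_of_dual hcon)
  obtain ⟨χ, hχ, hχu, hχB⟩ := exists_kill_two (F := F) hβ u ((B : Matrix β β F) *ᵥ u)
  obtain ⟨x, hx⟩ := exists_dot_one hχ
  let D : (α × β → F) →ₗ[F] (α × β → F) := Matrix.toLin' ((kr (A, B) : Matrix (α × β) (α × β) F) - 1)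
  have hD : ∀ z y, D (ten z y) = ten ((A : Matrix α α F) *ᵥ z) ((B : Matrix β β F) *ᵥ y) - ten z y := by
    intro z y
    rw [Matrix.toLin'_apply, sub_mulVec, one_mulVec, kr_mulVec_ten]
  let T : (α → F) →ₗ[F] (α × β → F) :=
    { toFun := fun z => ten z u
      map_add' := fun z z' => ten_add_left z z' u
      map_smul' := fun c z => ten_smul_left c z u }
  have hinj : Function.Injective (D ∘ₗ T) := by
    rw [← LinearMap.ker_eq_bot, LinearMap.ker_eq_bot']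
    intro z hz
    have h1 : ten ((A : Matrix α α F) *ᵥ z) ((B : Matrix β β F) *ᵥ u) - ten z u = 0 := by rw [← hD]; exact hz
    have h2 := congrArg (rc φ) h1
    rw [map_sub, rc_ten, rc_ten, hφu, zero_smul, sub_zero, map_zero] at h2
    rcases smul_eq_zero.1 h2 with h3 | h3
    · exact absurd h3 hφB
    · have h4 := inv_mulVec_mulVec A z
      rw [h3, mulVec_zero] at h4
      exact h4.symm
  have hrank : Module.finrank F (LinearMap.range D) = Fintype.card α := by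
    have h1 := LinearMap.finrank_range_add_finrank_ker D
    rw [Module.finrank_fintype_fun_eq_card, Fintype.card_prod] at h1
    have h2 : LinearMap.ker D = fixS (kr (A, B)) := rfl
    rw [h2] at h1
    omega
  have hle : LinearMap.range (D ∘ₗ T) ≤ LinearMap.range D := LinearMap.range_comp_le_range _ _
  have heq : LinearMap.range (D ∘ₗ T) = LinearMap.range D := by
    apply Submodule.eq_of_le_of_finrank_eq hle
    rw [hrank, LinearMap.finrank_range_of_inj hinj, Module.finrank_fintype_fun_eq_card]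
  have hAz : ∀ z, (χ ⬝ᵥ ((B : Matrix β β F) *ᵥ x)) • ((A : Matrix α α F) *ᵥ z) = z := by
    intro z
    have h1 : D (ten z x) ∈ LinearMap.range (D ∘ₗ T) := by rw [heq]; exact ⟨_, rfl⟩
    obtain ⟨z', hz'⟩ := h1
    have h2 : D (ten z' u) = D (ten z x) := hz'
    rw [hD, hD] at h2
    have h3 := congrArg (rc χ) h2
    rw [map_sub, map_sub, rc_ten, rc_ten, rc_ten, rc_ten, hχu, hχB, hx, zero_smul, zero_smul, sub_zero, one_smul] at h3
    exact (sub_eq_zero.1 h3.symm)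
  refine ⟨(χ ⬝ᵥ ((B : Matrix β β F) *ᵥ x))⁻¹, ?_⟩
  apply Matrix.mulVec_injective
  funext z
  rw [smul_mulVec, one_mulVec]
  by_cases hc : χ ⬝ᵥ ((B : Matrix β β F) *ᵥ x) = 0
  · have h1 := hAz z
    rw [hc, zero_smul] at h1
    rw [← h1, mulVec_zero, smul_zero]
  · rw [eq_comm, inv_smul_eq_iff₀ hc]
    exact (hAz z).symm

end Kron

variable {F : Type*} [Field F] {k t : ℕ}

/-- `1 ⊗ SL(W_i) ≤ M`. -/
def HX (i : Fin t) (M : Subgroup (GLV F k t)) : Prop :=
  ∀ (w ψ : Fin k → F) (h : ψ ⬝ᵥ w = 0), slG i (tv w ψ h) ∈ M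

/-- No `1 + y sl_i(w ψ)` in `M` with `y` a non-scalar element of the centraliser of slot `i`. -/
def NoK (i : Fin t) (M : Subgroup (GLV F k t)) : Prop :=
  ∀ y : Ma F k t, (∀ A : Mk F k, Commute y (sl i A)) → ∀ w ψ : Fin k → F, w ≠ 0 → ψ ≠ 0 → ψ ⬝ᵥ w = 0 →
    (∃ g ∈ M, (g : Ma F k t) = 1 + y * sl i (vecMulVec w ψ)) → ∃ c : F, y = c • (1 : Ma F k t)

/-- `g` normalises slot `i`, as a Kronecker product. -/
def Nm (i : Fin t) (g : GLV F k t) : Prop :=
  ∃ (a : GLV F k t) (B : GL (Fin k) F), (∀ A : Mk F k, Commute (a : Ma F k t) (sl i A)) ∧ g = a * slG i B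

/-- Root elements of slot `i`. -/
def Rt (i : Fin t) (g : GLV F k t) : Prop :=
  ∃ (w ψ : Fin k → F) (h : ψ ⬝ᵥ w = 0), w ≠ 0 ∧ ψ ≠ 0 ∧ g = slG i (tv w ψ h)

theorem HX.mono {i : Fin t} {M N : Subgroup (GLV F k t)} (h : HX i M) (hMN : M ≤ N) : HX i N :=
  fun w ψ h0 => hMN (h w ψ h0)

theorem NoK.mono {i : Fin t} {M N : Subgroup (GLV F k t)} (h : NoK i N) (hMN : M ≤ N) : NoK i M :=
  fun y hy w ψ hw hψ h0 ⟨g, hg, e⟩ => h y hy w ψ hw hψ h0 ⟨g, hMN hg, e⟩

theorem nm_of_kr {i : Fin t} {g : GLV F k t} {x : GL (Al k t i) F × GL (Fin k) F} (h : kr x = RG i g)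
    [NeZero k] : Nm i g := by
  refine ⟨(RG i).symm (kr (x.1, 1)), x.2, ?_, ?_⟩
  · rw [comm_iff_R]
    refine ⟨(x.1 : Matrix (Al k t i) (Al k t i) F), ?_⟩
    rw [← coe_RG, MulEquiv.apply_symm_apply, coe_kr, Units.val_one]
  · apply (RG i).injective
    rw [map_mul, MulEquiv.apply_symm_apply, RG_slG, ← map_mul, ← h]
    congr 1
    ext : 1 <;> simp

theorem kr_of_nm {i : Fin t} {g : GLV F k t} [NeZero k] (h : Nm i g) :
    ∃ x : GL (Al k t i) F × GL (Fin k) F, kr x = RG i g := by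
  obtain ⟨a, B, ha, rfl⟩ := h
  obtain ⟨Y, hY⟩ := (comm_iff_R i _).1 ha
  have ha' : ∀ A : Mk F k, Commute ((a⁻¹ : GLV F k t) : Ma F k t) (sl i A) := by
    intro A
    exact (Commute.units_inv_left (u := a) (ha A))
  obtain ⟨Y', hY'⟩ := (comm_iff_R i _).1 ha'
  have key : ∀ Y Y' : Matrix (Al k t i) (Al k t i) F, (Y ⊗ₖ (1 : Mk F k)) * (Y' ⊗ₖ (1 : Mk F k)) = 1 → Y * Y' = 1 := by
    intro Y Y' h
    rw [← mul_kronecker_mul, mul_one] at h
    ext p q
    have := congrFun (congrFun h (p, 0)) (q, 0)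
    rw [kroneckerMap_apply, Matrix.one_apply_eq, mul_one] at this
    rw [this, Matrix.one_apply, Matrix.one_apply]
    simp [Prod.ext_iff]
  have h1 : Y * Y' = 1 := by
    apply key
    rw [← hY, ← hY', ← map_mul, ← Units.val_mul, mul_inv_cancel, Units.val_one, map_one]
  have h2 : Y' * Y = 1 := by
    apply key
    rw [← hY, ← hY', ← map_mul, ← Units.val_mul, inv_mul_cancel, Units.val_one, map_one]
  refine ⟨(⟨Y, Y', h1, h2⟩, B), ?_⟩
  rw [map_mul, RG_slG]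
  have h3 : RG i a = kr ((⟨Y, Y', h1, h2⟩ : GL (Al k t i) F), (1 : GL (Fin k) F)) := by
    apply Units.ext
    rw [coe_RG, hY, coe_kr, Units.val_one]
  rw [h3, ← map_mul]
  congr 1
  ext : 1 <;> simp

theorem noKr_of_noK {i : Fin t} {M : Subgroup (GLV F k t)} [NeZero k] (h : NoK i M) :
    NoKr (M.map (RG i).toMonoidHom) := by
  rintro Y w ψ hw hψ ⟨h0, _, ⟨g, hg, rfl⟩, he⟩
  obtain ⟨y, hy⟩ := (R i).surjective (Y ⊗ₖ (1 : Mk F k))
  obtain ⟨c, hc⟩ := h y ((comm_iff_R i y).2 ⟨Y, hy⟩) w ψ hw hψ h0 ⟨g, hg, by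
    apply (R i).injective
    rw [map_add, map_one, map_mul, R_sl, hy, ← mul_kronecker_mul, mul_one, one_mul]
    exact he⟩
  refine ⟨c, ?_⟩
  rw [hc, map_smul, map_one] at hy
  ext p q
  have := congrFun (congrFun hy (p, 0)) (q, 0)
  rw [kroneckerMap_apply, Matrix.one_apply_eq, mul_one] at this
  rw [← this, Matrix.smul_apply, Matrix.smul_apply, Matrix.one_apply, Matrix.one_apply]
  simp [Prod.ext_iff]

/-- **Stabiliser lemma** (F1). -/
theorem stab (hk : 3 ≤ k) {i : Fin t} {M : Subgroup (GLV F k t)} (hX : HX i M) (hN : NoK i M) {w ψ : Fin k → F}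
    (hw : w ≠ 0) (hψ : ψ ≠ 0) {g : GLV F k t} (hg : g ∈ M)
    (hz : ∃ z : Ma F k t, (g : Ma F k t) * sl i (vecMulVec w ψ) = sl i (vecMulVec w ψ) * z) : Nm i g := by
  have : NeZero k := ⟨by omega⟩
  have : Nonempty (Al k t i) := ⟨fun _ => 0⟩
  obtain ⟨z, hz⟩ := hz
  obtain ⟨y, hy⟩ := exists_dot_one hψ
  obtain ⟨x, hx⟩ := mem_range_kr_of_noKr (M := M.map (RG i).toMonoidHom) (by
    intro w ψ h
    exact ⟨slG i (tv w ψ h), hX w ψ h, RG_slG i _⟩) (noKr_of_noK hN) (by simpa using hk) hw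
    (g := RG i g) ⟨g, hg, rfl⟩ (by
      intro u
      have h1 := congrArg (R i) hz
      rw [map_mul, map_mul, R_sl] at h1
      have h2 := congrArg (fun N => N *ᵥ ten u y) h1
      simp only [← mulVec_mulVec] at h2
      rw [kron_vecMulVec_mulVec, kron_vecMulVec_mulVec, rc_ten, hy, one_smul, one_mulVec, one_mulVec] at h2
      exact ⟨_, h2⟩)
  exact nm_of_kr hx

end Cfsg.Agent.H205.C7
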