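import Cfsg.Agent.H205.C7.Swap

/-!
# The induction step: roots of the slots are TI modulo `W`

`St J M`: `M` centralises the slots outside `J`, and satisfies `HX` and `NoK` for the slots in `J`.
-/

set_option autoImplicit false
set_option linter.unusedSectionVars false

namespace Cfsg.Agent.H205.C7

open Matrix Cfsg.Agent.H889 Cfsg.Agent.H872 Cfsg.Agent.H873 Cfsg.Geo
open scoped Kronecker MatrixGroups

variable {F : Type*} [Field F] {k t : ℕ}

/-! ### Centralisers of slots -/

/-- `g` centralises slot `i`. -/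
def Cen (i : Fin t) (g : GLV F k t) : Prop := ∀ A : Mk F k, Commute (g : Ma F k t) (sl i A)

/-- The centraliser of slot `i`. -/
def CG (F : Type*) [Field F] (k : ℕ) {t : ℕ} (i : Fin t) : Subgroup (GLV F k t) where
  carrier := {g | Cen i g}
  one_mem' := fun _ => Commute.one_left _
  mul_mem' := by
    intro a b ha hb A
    rw [Units.val_mul]
    exact (ha A).mul_left (hb A)
  inv_mem' := by
    intro a ha A
    exact Commute.units_inv_left (u := a) (ha A)

theorem mem_CG {i : Fin t} {g : GLV F k t} : g ∈ CG F k i ↔ Cen i g := Iff.rfl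

theorem cen_slG {i j : Fin t} (hij : i ≠ j) (B : GL (Fin k) F) : Cen i (slG j B : GLV F k t) :=
  fun A => sl_comm (Ne.symm hij) _ _

theorem slG_commute {i j : Fin t} (hij : i ≠ j) (B C : GL (Fin k) F) :
    Commute (slG i B : GLV F k t) (slG j C) := by
  apply Units.ext
  exact (sl_comm hij (B : Mk F k) (C : Mk F k)).eq

theorem Cen.commute {i : Fin t} {g : GLV F k t} (h : Cen i g) (B : GL (Fin k) F) : Commute g (slG i B) := by
  apply Units.ext
  exact (h (B : Mk F k)).eq

theorem scalar_of_forall_comm {A : Mk F k} (h : ∀ B : Mk F k, Commute A B) :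
    ∃ c : F, A = c • (1 : Mk F k) := by
  apply exists_scalar_of_dual
  intro u φ hφ
  have h1 := (h (vecMulVec u φ)).eq
  rw [mul_vecMulVec, vecMulVec_mul] at h1
  by_cases hφ0 : φ = 0
  · rw [hφ0, zero_dotProduct]
  obtain ⟨y, hy⟩ := exists_dot_one hφ0
  have h2 := congrArg (fun X => X *ᵥ y) h1
  simp only [vecMulVec_mulVec, op_smul_eq_smul, hy, one_smul] at h2
  rw [h2, dotProduct_smul, hφ, smul_zero]

/-- Two slots intersect in the scalars. -/
theorem scalar_of_sl_eq [NeZero k] {i j : Fin t} (hij : i ≠ j) {A B : Mk F k} (h : (sl i A : Ma F k t) = sl j B) :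
    ∃ c : F, A = c • (1 : Mk F k) := by
  apply scalar_of_forall_comm
  intro C
  apply sl_injective (k := k) i
  rw [map_mul, map_mul, h, (sl_comm (Ne.symm hij) _ _).eq]

theorem not_scalar_vec {w ψ : Fin k → F} (h0 : ψ ⬝ᵥ w = 0) (hw : w ≠ 0) (hψ : ψ ≠ 0) (c : F) :
    ((tv w ψ h0 : GL (Fin k) F) : Mk F k) ≠ c • (1 : Mk F k) := by
  intro h
  obtain ⟨y, hy⟩ := exists_dot_one hψ
  rw [coe_tv] at h
  have h1 := congrArg (fun X => X *ᵥ w) h
  have h2 := congrArg (fun X => X *ᵥ y) h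
  simp only [add_mulVec, one_mulVec, vecMulVec_mulVec, op_smul_eq_smul, h0, zero_smul, add_zero, smul_mulVec, hy,
    one_smul] at h1 h2
  have hc : c = 1 := by
    obtain ⟨a, ha⟩ := Function.ne_iff.1 hw
    have := congrFun h1 a
    rw [Pi.smul_apply, smul_eq_mul] at this
    exact (mul_eq_right₀ ha).1 this.symm
  rw [hc, one_smul, add_eq_left] at h2
  exact hw h2

/-! ### Root-like elements are not scalar -/

theorem not_scalar_of_RL [NeZero k] {e : GLV F k t} (he : RL e) : ¬ ∃ c : F, (e : Ma F k t) = c • (1 : Ma F k t) := by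
  rintro ⟨c, hc⟩
  have h1 := he.sq
  rw [hc, ← sub_one_smul_one, smul_mul_smul_comm, mul_one] at h1
  have h2 : (c - 1) * (c - 1) = 0 := by
    have := congrFun (congrFun h1 (fun _ => 0)) (fun _ => 0)
    simpa using this
  have h3 : c = 1 := by
    have := mul_self_eq_zero.1 h2
    exact sub_eq_zero.1 this
  have h4 : fixS e = ⊤ := by
    rw [eq_top_iff]
    intro v _
    rw [mem_fixS, hc, h3, one_smul, one_mulVec]
  have h5 := he.cod
  rw [h4, finrank_top, Module.finrank_fintype_fun_eq_card, Fintype.card_fun, Fintype.card_fin, Fintype.card_fin] at h5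
  have h6 : 0 < k ^ (t - 1) := Nat.pos_of_ne_zero (pow_ne_zero _ (NeZero.ne k))
  omega
where
  sub_one_smul_one {c : F} : (c - 1) • (1 : Ma F k t) = c • (1 : Ma F k t) - 1 := by rw [sub_smul, one_smul]

/-- A root-like element which normalises all slots in `J` and centralises the others is a root element. -/
theorem exists_slot (hk : 3 ≤ k) {J : Finset (Fin t)} {e : GLV F k t} (he : RL e) (hout : ∀ i, i ∉ J → Cen i e)
    (hn : ∀ i ∈ J, Nm i e) : ∃ r ∈ J, Rt r e := by
  have : NeZero k := ⟨by omega⟩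
  by_contra hcon
  push Not at hcon
  apply not_scalar_of_RL he
  apply exists_scalar_of_comm
  intro i A
  by_cases hi : i ∈ J
  · rcases dich hk he (hn i hi) with h | h
    · exact h A
    · exact absurd h (hcon i hi)
  · exact hout i hi A

/-! ### Square roots of root elements -/

/-- The group generated by transvections. -/
def Tr (F : Type*) [Field F] (k : ℕ) : Subgroup (GL (Fin k) F) :=
  Subgroup.closure {x | ∃ (w ψ : Fin k → F) (h : ψ ⬝ᵥ w = 0), x = tv w ψ h}

theorem tv_mem_Tr {w ψ : Fin k → F} (h : ψ ⬝ᵥ w = 0) : tv w ψ h ∈ Tr F k :=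
  Subgroup.subset_closure ⟨w, ψ, h, rfl⟩

theorem HX.tr {i : Fin t} {M : Subgroup (GLV F k t)} (h : HX i M) {x : GL (Fin k) F} (hx : x ∈ Tr F k) :
    slG i x ∈ M := by
  have : Tr F k ≤ M.comap (slG i) := by
    unfold Tr
    rw [Subgroup.closure_le]
    rintro _ ⟨w, ψ, h0, rfl⟩
    exact h w ψ h0
  exact this hx

/-- Configuration of two roots whose commutator is a given root. -/
theorem exists_conf (hk : 3 ≤ k) (w : Fin k → F) {ψ : Fin k → F} (hψ : ψ ≠ 0) :
    ∃ b c : Fin k → F, b ⬝ᵥ w = 0 ∧ ψ ⬝ᵥ c = 0 ∧ b ⬝ᵥ c = 1 := by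
  have hk' : 3 ≤ Fintype.card (Fin k) := by simpa using hk
  obtain ⟨y, hy⟩ := exists_dot_one hψ
  obtain ⟨η, hη, hηw, hηy⟩ := exists_kill_two (F := F) hk' w y
  obtain ⟨z₀, hz₀⟩ := exists_dot_one hη
  refine ⟨η, z₀ - (ψ ⬝ᵥ z₀) • y, hηw, ?_, ?_⟩
  · rw [dotProduct_sub, dotProduct_smul, hy, smul_eq_mul, mul_one, sub_self]
  · rw [dotProduct_sub, dotProduct_smul, hηy, hz₀, smul_zero, sub_zero]

theorem exists_sqrt (hk : 3 ≤ k) : ∃ v ∈ Tr F k, ∃ (w ψ : Fin k → F) (h : ψ ⬝ᵥ w = 0), w ≠ 0 ∧ ψ ≠ 0 ∧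
    v * v = tv w ψ h := by
  have hk' : 3 ≤ Fintype.card (Fin k) := by simpa using hk
  obtain ⟨w, hw⟩ := exists_dual_one (F := F) (k := k) (by omega)
  obtain ⟨ψ, hψ, h0, -⟩ := exists_kill_two (F := F) hk' w w
  by_cases h2 : (2 : F) = 0
  · obtain ⟨b, c, hbw, hψc, hbc⟩ := exists_conf hk w hψ
    refine ⟨tv w b hbw * tv c ψ hψc, mul_mem (tv_mem_Tr _) (tv_mem_Tr _), w, ψ, h0, hw, hψ, ?_⟩
    apply Units.ext
    simp only [Units.val_mul, coe_tv]
    have h12 : vecMulVec w b * vecMulVec c ψ = (vecMulVec w ψ : Mk F k) := by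
      rw [vecMulVec_mul_vecMulVec, hbc, one_smul]
    have h21 : vecMulVec c ψ * vecMulVec w b = (0 : Mk F k) := by
      rw [vecMulVec_mul_vecMulVec, h0, zero_smul, vecMulVec_zero]
    have h11 : vecMulVec w b * vecMulVec w b = (0 : Mk F k) := by
      rw [vecMulVec_mul_vecMulVec, hbw, zero_smul, vecMulVec_zero]
    have h22 : vecMulVec c ψ * vecMulVec c ψ = (0 : Mk F k) := by
      rw [vecMulVec_mul_vecMulVec, hψc, zero_smul, vecMulVec_zero]
    have h32 : vecMulVec w ψ * vecMulVec c ψ = (0 : Mk F k) := by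
      rw [vecMulVec_mul_vecMulVec, hψc, zero_smul, vecMulVec_zero]
    have h31 : vecMulVec w ψ * vecMulVec w b = (0 : Mk F k) := by
      rw [vecMulVec_mul_vecMulVec, h0, zero_smul, vecMulVec_zero]
    have h2' : ∀ X : Mk F k, X + X = 0 := fun X => by rw [← two_smul F, h2, zero_smul]
    generalize (vecMulVec w b : Mk F k) = N at *
    generalize (vecMulVec c ψ : Mk F k) = K at *
    generalize (vecMulVec w ψ : Mk F k) = L at *
    have e1 : (1 + N) * (1 + K) = 1 + N + K + L := by rw [← h12]; noncomm_ring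
    rw [e1]
    have e2 : (1 + N + K + L) * (1 + N + K + L) = 1 + (N + N) + (K + K) + (L + L) + N * N + N * K + N * N * K + K * N +
        K * K + K * N * K + L * N + L * K + L * N * K := by
      rw [← h12]; noncomm_ring
    rw [e2, h2', h2', h2', h11, h12, h21, h22, h31, h32]
    simp
  · refine ⟨tv ((2 : F)⁻¹ • w) ψ (by rw [dotProduct_smul, h0, smul_zero]), tv_mem_Tr _, w, ψ, h0, hw, hψ, ?_⟩
    apply Units.ext
    simp only [Units.val_mul, coe_tv]
    have h11 : vecMulVec ((2 : F)⁻¹ • w) ψ * vecMulVec ((2 : F)⁻¹ • w) ψ = (0 : Mk F k) := by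
      rw [vecMulVec_mul_vecMulVec, dotProduct_smul, h0, smul_zero, zero_smul, vecMulVec_zero]
    have h12 : vecMulVec ((2 : F)⁻¹ • w) ψ + vecMulVec ((2 : F)⁻¹ • w) ψ = (vecMulVec w ψ : Mk F k) := by
      rw [← add_vecMulVec, ← add_smul, ← two_mul, mul_inv_cancel₀ h2, one_smul]
    rw [← h12]
    generalize (vecMulVec ((2 : F)⁻¹ • w) ψ : Mk F k) = N at *
    have : (1 + N) * (1 + N) = 1 + (N + N) + N * N := by noncomm_ring
    rw [this, h11, add_zero]

/-! ### The setting -/

/-- The setting of the induction. -/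
structure St (J : Finset (Fin t)) (M : Subgroup (GLV F k t)) : Prop where
  out : ∀ i, i ∉ J → ∀ g ∈ M, Cen i g
  hx : ∀ i ∈ J, HX i M
  nk : ∀ i ∈ J, NoK i M

theorem St.erase {J : Finset (Fin t)} {M : Subgroup (GLV F k t)} (S : St J M) {r : Fin t} :
    St (J.erase r) (M ⊓ CG F k r) where
  out := by
    intro i hi g hg
    by_cases h : i = r
    · subst h; exact hg.2
    · exact S.out i (fun h' => hi (Finset.mem_erase.2 ⟨h, h'⟩)) g hg.1
  hx := by
    intro i hi w ψ h
    exact ⟨S.hx i (Finset.mem_of_mem_erase hi) w ψ h, cen_slG (Finset.ne_of_mem_erase hi).symm _⟩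
  nk := by
    intro i hi
    exact (S.nk i (Finset.mem_of_mem_erase hi)).mono inf_le_left

variable {J : Finset (Fin t)} {M : Subgroup (GLV F k t)}

/-- **(C1)** An element of `M` mapping a root of a slot to a root of a slot lies in `W`. -/
theorem C1 (hk : 3 ≤ k) (S : St J M) (IH : ∀ r ∈ J, M ⊓ CG F k r ≤ W F k t) {s r : Fin t} (hs : s ∈ J) (hr : r ∈ J)
    {g : GLV F k t} (hg : g ∈ M) {w ψ : Fin k → F} (h0 : ψ ⬝ᵥ w = 0) (hw : w ≠ 0) (hψ : ψ ≠ 0)
    (hL : LL s r g (vecMulVec w ψ)) : g ∈ W F k t := by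
  have : NeZero k := ⟨by omega⟩
  have hall := LL.all hk (S.hx s hs) (S.hx r hr) (S.nk r hr) hg h0 hw hψ hL
  obtain ⟨B, hB⟩ := exists_inner_of_LL hall
  apply mem_W_of_LL (by omega)
  intro i
  by_cases hi : i ∈ J
  · by_cases his : i = s
    · subst his; exact ⟨r, hall⟩
    · obtain ⟨v, hv, w', ψ', h', hw', hψ', hvv⟩ := exists_sqrt (F := F) hk
      set x : GLV F k t := g * slG i v * g⁻¹ with hx
      have hxM : x ∈ M := M.mul_mem (M.mul_mem hg ((S.hx i hi).tr hv)) (M.inv_mem hg)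
      have hxC : Cen r x := by
        intro C
        have h1 : (sl r C : Ma F k t) = (g : Ma F k t) * sl s ((((B)⁻¹ : GL (Fin k) F) : Mk F k) * C * (B : Mk F k)) *
            ((g⁻¹ : GLV F k t) : Ma F k t) := by
          rw [hB]
          have : (B : Mk F k) * ((((B)⁻¹ : GL (Fin k) F) : Mk F k) * C * (B : Mk F k)) * (((B)⁻¹ : GL (Fin k) F) : Mk F k) = C := by
            simp [mul_assoc]
          rw [this, mul_assoc, Units.mul_inv, mul_one]
        show _ * _ = _ * _
        rw [h1, hx]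
        generalize (((B)⁻¹ : GL (Fin k) F) : Mk F k) * C * (B : Mk F k) = C'
        have h2 : (sl i (v : Mk F k) : Ma F k t) * sl s C' = sl s C' * sl i (v : Mk F k) := (sl_comm his _ _).eq
        rw [Units.val_mul, Units.val_mul, coe_slG]
        calc (g : Ma F k t) * sl i (v : Mk F k) * ((g⁻¹ : GLV F k t) : Ma F k t) *
              ((g : Ma F k t) * sl s C' * ((g⁻¹ : GLV F k t) : Ma F k t))
            = (g : Ma F k t) * (sl i (v : Mk F k) * (((g⁻¹ : GLV F k t) : Ma F k t) * (g : Ma F k t)) * sl s C') *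
              ((g⁻¹ : GLV F k t) : Ma F k t) := by simp only [mul_assoc]
          _ = (g : Ma F k t) * (sl s C' * (((g⁻¹ : GLV F k t) : Ma F k t) * (g : Ma F k t)) * sl i (v : Mk F k)) *
              ((g⁻¹ : GLV F k t) : Ma F k t) := by rw [Units.inv_mul, mul_one, mul_one, h2]
          _ = _ := by simp only [mul_assoc]
      have hxW : x ∈ W F k t := IH r hr ⟨hxM, hxC⟩
      have hxx : x * x = g * slG i (tv w' ψ' h') * g⁻¹ := by
        rw [hx, ← hvv, map_mul]; group
      have hRL : RL (x * x) := by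
        rw [hxx]; exact (rl_of_rt ⟨w', ψ', h', hw', hψ', rfl⟩).conj g
      obtain ⟨r', hr', hR⟩ := exists_slot hk hRL (fun j hj => S.out j hj _ (M.mul_mem hxM hxM))
        (fun j _ => even_sq hk hxW hRL j)
      rw [hxx] at hR
      exact ⟨r', LL.all hk (S.hx i hi) (S.hx r' hr') (S.nk r' hr') hg h' hw' hψ' (LL_of_rt hR)⟩
  · exact ⟨i, fun A => ⟨A, (S.out i hi g hg A).eq⟩⟩

end Cfsg.Agent.H205.C7
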