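import Cfsg.Agent.H205.C7.Wreath

/-!
# Root-like elements of `W` which move slots

In odd characteristic there are none (`odd_fix`); in characteristic 2 they move exactly two slots and `k = 3`
(`even_le_three`, `even_two`).
-/

set_option autoImplicit false
set_option linter.unusedSectionVars false

namespace Cfsg.Agent.H205.C7

open Matrix Cfsg.Agent.H889 Cfsg.Agent.H872 Cfsg.Agent.H873 Cfsg.Geo
open scoped Kronecker MatrixGroups

variable {F : Type*} [Field F] {k t : ℕ}

/-- An element of `W` fixing slot `i` normalises it. -/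
theorem nm_of_Mo {e : GLV F k t} {σ : Equiv.Perm (Fin t)} {B : Fin t → GL (Fin k) F} (h : Mo e σ B) {i : Fin t}
    (hi : σ i = i) : Nm i e := by
  refine ⟨e * (slG i (B i))⁻¹, B i, ?_, by group⟩
  intro A
  have h4 := h i ((((B i)⁻¹ : GL (Fin k) F) : Mk F k) * A * (B i : Mk F k))
  have h5 : (B i : Mk F k) * ((((B i)⁻¹ : GL (Fin k) F) : Mk F k) * A * (B i : Mk F k)) *
      (((B i)⁻¹ : GL (Fin k) F) : Mk F k) = A := by simp [mul_assoc]
  rw [h5, hi] at h4
  have h6 : ((slG i (B i))⁻¹ : GLV F k t) = slG i ((B i)⁻¹) := (map_inv _ _).symm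
  show _ * _ = _ * _
  rw [h6, Units.val_mul, coe_slG]
  have h7 : sl i ((((B i)⁻¹ : GL (Fin k) F) : Mk F k) * A * (B i : Mk F k)) * sl i (((B i)⁻¹ : GL (Fin k) F) : Mk F k) =
      (sl i (((B i)⁻¹ : GL (Fin k) F) : Mk F k) * sl i A : Ma F k t) := by
    rw [← map_mul, ← map_mul]
    congr 1
    rw [mul_assoc, Units.mul_inv, mul_one]
  rw [mul_assoc, ← h7, ← mul_assoc, h4, mul_assoc]

/-! ### Odd characteristic -/

theorem tp_dot (xs ys : Fin t → (Fin k → F)) : tp xs ⬝ᵥ tp ys = ∏ i, xs i ⬝ᵥ ys i := by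
  simp only [dotProduct, tp_apply]
  rw [Finset.prod_univ_sum, Fintype.piFinset_univ]
  exact Finset.sum_congr rfl fun c _ => (Finset.prod_mul_distrib).symm

theorem mono_pow {g : GLV F k t} {gs : Fin t → GL (Fin k) F} {σ : Equiv.Perm (Fin t)} (h : IsMonomialOn g gs σ) (n : ℕ) :
    ∃ hs, IsMonomialOn (g ^ n) hs (σ ^ n) := by
  induction n with
  | zero => exact ⟨_, isMonomialOn_one⟩
  | succ n ih =>
    obtain ⟨hs, hh⟩ := ih
    refine ⟨fun i => gs i * hs (σ i), ?_⟩
    rw [pow_succ', pow_succ]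
    exact h.mul hh

theorem exists_dual_one (hk : 1 ≤ k) : ∃ x : Fin k → F, x ≠ 0 := by
  refine ⟨Pi.single ⟨0, by omega⟩ 1, ?_⟩
  intro h
  have := congrFun h ⟨0, by omega⟩
  simp at this

/-- The identity is monomial only for the trivial permutation. -/
theorem one_mono (hk : 3 ≤ k) {gs : Fin t → GL (Fin k) F} {σ : Equiv.Perm (Fin t)}
    (h : IsMonomialOn (1 : GLV F k t) gs σ) : σ = 1 := by
  have hk' : 3 ≤ Fintype.card (Fin k) := by simpa using hk
  by_contra hσ
  obtain ⟨r, hr⟩ : ∃ r, σ r ≠ r := by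
    by_contra hcon
    push Not at hcon
    exact hσ (Equiv.ext hcon)
  obtain ⟨x0, hx0⟩ := exists_dual_one (F := F) (k := k) (by omega)
  obtain ⟨χ, hχ, hχ1, -⟩ := exists_kill_two (F := F) hk' ((gs r : Mk F k) *ᵥ x0) ((gs r : Mk F k) *ᵥ x0)
  obtain ⟨y, hy⟩ := exists_dot_one hχ
  obtain ⟨ξ, hξ⟩ := exists_dot_one hx0
  rw [dotProduct_comm] at hξ
  let xs : Fin t → (Fin k → F) := Function.update (fun _ => x0) r y
  let ξs : Fin t → (Fin k → F) := Function.update (fun _ => ξ) r χ
  have h1 := h xs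
  rw [Units.val_one, one_mulVec] at h1
  have h2 := congrArg (fun v => tp ξs ⬝ᵥ v) h1
  simp only [tp_dot] at h2
  rw [Finset.prod_eq_one, Finset.prod_eq_zero (Finset.mem_univ r)] at h2
  · exact one_ne_zero h2
  · simp only [ξs, xs, Function.update_self, Function.update_of_ne hr, hχ1]
  · intro j _
    by_cases hj : j = r
    · subst hj; simp only [ξs, xs, Function.update_self, hy]
    · simp only [ξs, xs, Function.update_of_ne hj, hξ]

theorem sq_pow {g : GLV F k t} (h : ((g : Ma F k t) - 1) * ((g : Ma F k t) - 1) = 0) (n : ℕ) :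
    ((g ^ n : GLV F k t) : Ma F k t) = 1 + (n : F) • ((g : Ma F k t) - 1) := by
  induction n with
  | zero => simp
  | succ n ih =>
    have hg : (g : Ma F k t) = 1 + ((g : Ma F k t) - 1) := by abel
    rw [pow_succ, Units.val_mul, ih]
    conv_lhs => rw [hg]
    rw [add_sub_cancel_left, add_mul, one_mul, smul_mul_assoc, mul_add, mul_one, h, add_zero]
    push_cast
    rw [add_smul, one_smul]
    abel

theorem sq_rel {g : GLV F k t} (h : ((g : Ma F k t) - 1) * ((g : Ma F k t) - 1) = 0) (v : (Fin t → Fin k) → F) :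
    (g : Ma F k t) *ᵥ ((g : Ma F k t) *ᵥ v) = (2 : F) • ((g : Ma F k t) *ᵥ v) - v := by
  have h1 : (g : Ma F k t) * (g : Ma F k t) = (2 : F) • (g : Ma F k t) - 1 := by
    have : ((g : Ma F k t) - 1) * ((g : Ma F k t) - 1) = (g : Ma F k t) * (g : Ma F k t) - ((2 : F) • (g : Ma F k t) - 1) := by
      rw [two_smul]; noncomm_ring
    rw [this] at h
    exact sub_eq_zero.1 h
  rw [mulVec_mulVec, h1, sub_mulVec, smul_mulVec, one_mulVec]

/-- In odd characteristic a square-zero element plus 1 in `W` fixes all slots. -/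
theorem odd_fix (hk : 3 ≤ k) {p : ℕ} [CharP F p] (hp : p.Prime) (hp2 : p ≠ 2) [NeZero t] {e : GLV F k t} (he : e ∈ W F k t)
    (hs : ((e : Ma F k t) - 1) * ((e : Ma F k t) - 1) = 0) (i : Fin t) : Nm i e := by
  have : NeZero k := ⟨by omega⟩
  have hk' : 3 ≤ Fintype.card (Fin k) := by simpa using hk
  obtain ⟨gs, σ, hm⟩ := exists_isMonomialOn (W_le_wreath he)
  have hσp : σ ^ p = 1 := by
    obtain ⟨hs', hm'⟩ := mono_pow hm p
    have h1 : e ^ p = 1 := by
      apply Units.ext
      rw [sq_pow hs, CharP.cast_eq_zero, zero_smul, add_zero, Units.val_one]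
    rw [h1] at hm'
    exact one_mono hk hm'
  have hσ : σ = 1 := by
    by_contra hσ
    obtain ⟨r, hr⟩ : ∃ r, σ r ≠ r := by
      by_contra hcon
      push Not at hcon
      exact hσ (Equiv.ext hcon)
    by_cases hr2 : σ (σ r) = r
    · -- σ has odd order
      apply hr
      obtain ⟨m, hm2⟩ := hp.odd_of_ne_two hp2
      have h1 : ∀ n : ℕ, (σ ^ (2 * n)) r = r := by
        intro n
        induction n with
        | zero => rfl
        | succ n ih =>
          rw [mul_add, pow_add, Equiv.Perm.mul_apply]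
          have : (σ ^ (2 * 1)) r = r := by
            rw [mul_one, pow_two, Equiv.Perm.mul_apply, hr2]
          rw [this, ih]
      have h2 : (σ ^ p) r = r := by rw [hσp]; rfl
      rw [hm2, pow_succ', Equiv.Perm.mul_apply, h1] at h2
      exact h2
    · obtain ⟨x0, hx0⟩ := exists_dual_one (F := F) (k := k) (by omega)
      obtain ⟨χ, hχ, hχ1, hχ2⟩ := exists_kill_two (F := F) hk' ((gs r : Mk F k) *ᵥ x0)
        ((gs r : Mk F k) *ᵥ ((gs (σ r) : Mk F k) *ᵥ x0))
      obtain ⟨y, hy⟩ := exists_dot_one hχ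
      obtain ⟨ξ, hξ⟩ := exists_dot_one hx0
      rw [dotProduct_comm] at hξ
      let xs : Fin t → (Fin k → F) := Function.update (fun _ => x0) r y
      let ξs : Fin t → (Fin k → F) := Function.update (fun _ => ξ) r χ
      have h1 := sq_rel hs (tp xs)
      rw [hm, hm] at h1
      have h2 := congrArg (fun v => tp ξs ⬝ᵥ v) h1
      simp only [dotProduct_sub, dotProduct_smul, tp_dot] at h2
      rw [Finset.prod_eq_zero (Finset.mem_univ r), Finset.prod_eq_zero (Finset.mem_univ r), Finset.prod_eq_one] at h2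
      · simp at h2
      · intro j _
        by_cases hj : j = r
        · subst hj; simp only [ξs, xs, Function.update_self, hy]
        · simp only [ξs, xs, Function.update_of_ne hj, hξ]
      · simp only [ξs, xs, Function.update_self, Function.update_of_ne hr, hχ1]
      · simp only [ξs, xs, Function.update_self, Function.update_of_ne hr2, hχ2]
  subst hσ
  have he2 : e = pmGL gs := by
    apply Units.ext
    apply matrix_ext_tp
    intro xs
    rw [hm xs, coe_pmGL, pm_mulVec]
    rfl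
  rw [he2]
  exact nm_of_Mo (Mo_pmGL gs) rfl

/-! ### Characteristic 2 -/

theorem vecMulVec_sum' {ι : Type*} (s : Finset ι) (y : Fin k → F) (f : ι → Fin k → F) :
    vecMulVec y (∑ j ∈ s, f j) = ∑ j ∈ s, vecMulVec y (f j) := by
  ext a b
  simp only [vecMulVec_apply, Matrix.sum_apply, Finset.sum_apply, Finset.mul_sum]

/-- The nilpotent Jordan block. -/
def Jb (F : Type*) [Field F] (k : ℕ) : Mk F k := Matrix.of fun a b => if (a : ℕ) + 1 = (b : ℕ) then 1 else 0

theorem Jb_row (j : ℕ) (hj : j + 1 < k) :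
    (Pi.single ⟨j, by omega⟩ (1 : F) : Fin k → F) ᵥ* Jb F k = Pi.single ⟨j + 1, hj⟩ 1 := by
  funext b
  rw [single_one_vecMul]
  simp only [Jb, Matrix.of_apply, Matrix.row]
  by_cases hb : j + 1 = (b : ℕ)
  · have : b = ⟨j + 1, hj⟩ := Fin.ext hb.symm
    subst this
    simp
  · rw [if_neg hb, Pi.single_eq_of_ne]
    intro h; apply hb; rw [h]

theorem sl_vec_eq_zero {r : Fin t} {v : (Fin t → Fin k) → F} {y : Fin k → F} (hy : y ≠ 0)
    (h : ∀ χ : Fin k → F, sl r (vecMulVec y χ) *ᵥ v = 0) : v = 0 := by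
  obtain ⟨θ, hθ⟩ := exists_dot_one hy
  rw [dotProduct_comm] at hθ
  have h1 : ∀ x χ : Fin k → F, sl r (vecMulVec x χ) *ᵥ v = 0 := by
    intro x χ
    have h2 : vecMulVec x χ = vecMulVec x θ * vecMulVec y χ := by
      rw [vecMulVec_mul_vecMulVec, hθ, one_smul]
    rw [h2, map_mul, ← mulVec_mulVec, h, mulVec_zero]
  have h2 : (1 : Mk F k) = ∑ b : Fin k, vecMulVec (Pi.single b 1) (Pi.single b 1) := by
    ext a b
    rw [Matrix.sum_apply, Matrix.one_apply]
    by_cases hab : a = b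
    · subst hab
      rw [if_pos rfl, Finset.sum_eq_single a]
      · simp [vecMulVec_apply]
      · intro c _ hc; simp [vecMulVec_apply, hc.symm]
      · intro h; exact absurd (Finset.mem_univ _) h
    · rw [if_neg hab, Finset.sum_eq_zero]
      intro c _
      rw [vecMulVec_apply]
      by_cases hc : a = c
      · subst hc; simp [Ne.symm hab]
      · simp [hc]
  have h3 : v = sl r (1 : Mk F k) *ᵥ v := by rw [map_one, one_mulVec]
  rw [h3, h2, map_sum, Matrix.sum_mulVec]
  exact Finset.sum_eq_zero (fun b _ => h1 _ _)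

section Even

variable {e : GLV F k t} {σ : Equiv.Perm (Fin t)} {B : Fin t → GL (Fin k) F}

/-- `sl_r(J) - sl_{σ r}(B J B⁻¹)`. -/
def Xd (r : Fin t) (σ : Equiv.Perm (Fin t)) (B : Fin t → GL (Fin k) F) : Ma F k t :=
  sl r (Jb F k) - sl (σ r) ((B r : Mk F k) * Jb F k * (((B r)⁻¹ : GL (Fin k) F) : Mk F k))

theorem finrank_ker_Xd (hk : 3 ≤ k) {r : Fin t} (hr : σ r ≠ r) :
    Module.finrank F (LinearMap.ker (Matrix.toLin' (Xd (F := F) r σ B))) ≤ k ^ (t - 1) := by
  have : NeZero k := ⟨by omega⟩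
  let f : ((Fin t → Fin k) → F) ≃ₗ[F] (Al k t (σ r) × Fin k → F) := LinearEquiv.funCongrLeft F F (ei (σ r)).symm
  let χ : Fin k → F := (Pi.single ⟨0, by omega⟩ (1 : F) : Fin k → F) ᵥ* (((B r)⁻¹ : GL (Fin k) F) : Mk F k)
  let T : LinearMap.ker (Matrix.toLin' (Xd (F := F) r σ B)) →ₗ[F] (Al k t (σ r) → F) :=
    (rc χ ∘ₗ f.toLinearMap) ∘ₗ Submodule.subtype _
  have hT : Function.Injective T := by
    rw [← LinearMap.ker_eq_bot, LinearMap.ker_eq_bot']
    rintro ⟨z, hz⟩ hz0
    have hz1 : sl r (Jb F k) *ᵥ z = sl (σ r) ((B r : Mk F k) * Jb F k * (((B r)⁻¹ : GL (Fin k) F) : Mk F k)) *ᵥ z := by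
      have := LinearMap.mem_ker.1 hz
      rw [Matrix.toLin'_apply, Xd, sub_mulVec] at this
      exact sub_eq_zero.1 this
    obtain ⟨y, hy⟩ := exists_dual_one (F := F) (k := k) (by omega)
    -- sl (y χ) z = 0
    have h0 : sl (σ r) (vecMulVec y χ) *ᵥ z = 0 := by
      have h1 : f (sl (σ r) (vecMulVec y χ) *ᵥ z) = ten (rc χ (f z)) y := by
        have h2 : ∀ x : Ma F k t, f (x *ᵥ z) = R (σ r) x *ᵥ f z := by
          intro x
          have h3 : R (σ r) x = x.submatrix (ei (σ r)).symm (ei (σ r)).symm := rfl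
          have h4 : f z = z ∘ (ei (σ r)).symm := rfl
          have h5 : f (x *ᵥ z) = (x *ᵥ z) ∘ (ei (σ r)).symm := rfl
          rw [h3, h4, h5, Matrix.submatrix_mulVec_equiv]
          simp [Function.comp_def]
        rw [h2, R_sl, kron_vecMulVec_mulVec, one_mulVec]
      have h2 : rc χ (f z) = 0 := hz0
      rw [h2, ten_zero_left] at h1
      exact f.map_eq_zero_iff.1 h1
    -- all powers
    have h1 : ∀ j : ℕ, ∀ hj : j < k,
        sl (σ r) (vecMulVec y ((Pi.single ⟨j, hj⟩ (1 : F) : Fin k → F) ᵥ* (((B r)⁻¹ : GL (Fin k) F) : Mk F k))) *ᵥ z = 0 := by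
      intro j
      induction j with
      | zero => intro _; exact h0
      | succ j ih =>
        intro hj
        have h2 : vecMulVec y ((Pi.single ⟨j + 1, hj⟩ (1 : F) : Fin k → F) ᵥ* (((B r)⁻¹ : GL (Fin k) F) : Mk F k)) =
            vecMulVec y ((Pi.single ⟨j, by omega⟩ (1 : F) : Fin k → F) ᵥ* (((B r)⁻¹ : GL (Fin k) F) : Mk F k)) *
              ((B r : Mk F k) * Jb F k * (((B r)⁻¹ : GL (Fin k) F) : Mk F k)) := by
          rw [vecMulVec_mul, vecMul_vecMul, ← mul_assoc, ← mul_assoc, Units.inv_mul, one_mul, ← vecMul_vecMul, Jb_row j hj]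
        rw [h2, map_mul, ← mulVec_mulVec, ← hz1, mulVec_mulVec, (sl_comm hr _ _).eq, ← mulVec_mulVec,
          ih (by omega), mulVec_zero]
    have h2 : z = 0 := by
      refine sl_vec_eq_zero (r := σ r) hy (fun χ' => ?_)
      have h3 : χ' = ∑ j : Fin k, (χ' ᵥ* (B r : Mk F k)) j •
          ((Pi.single j (1 : F) : Fin k → F) ᵥ* (((B r)⁻¹ : GL (Fin k) F) : Mk F k)) := by
        have h4 : χ' = (χ' ᵥ* (B r : Mk F k)) ᵥ* (((B r)⁻¹ : GL (Fin k) F) : Mk F k) := by
          rw [vecMul_vecMul, Units.mul_inv, vecMul_one]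
        conv_lhs => rw [h4]
        rw [vecMul_eq_sum]
        refine Finset.sum_congr rfl (fun j _ => ?_)
        rw [single_one_vecMul]
        rfl
      rw [h3, vecMulVec_sum', map_sum, Matrix.sum_mulVec]
      refine Finset.sum_eq_zero (fun j _ => ?_)
      rw [vecMulVec_smul, map_smul, smul_mulVec, h1 j.1 j.2, smul_zero]
    exact Subtype.ext h2
  have h1 := LinearMap.finrank_le_finrank_of_injective hT
  rwa [Module.finrank_fintype_fun_eq_card, card_Al] at h1

theorem Xd_fix (hm : Mo e σ B) {r : Fin t} {v : (Fin t → Fin k) → F} (hv : v ∈ fixS e) :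
    Xd (F := F) r σ B *ᵥ v ∈ LinearMap.range (Matrix.toLin' ((e : Ma F k t) - 1)) := by
  have h1 := mem_fixS.1 hv
  have h2 := congrArg (fun x => x *ᵥ v) (hm r (Jb F k))
  simp only [← mulVec_mulVec] at h2
  rw [h1] at h2
  refine ⟨- (sl r (Jb F k) *ᵥ v), ?_⟩
  rw [Matrix.toLin'_apply, Xd, sub_mulVec, sub_mulVec, ← h2, one_mulVec, mulVec_neg]
  abel

theorem finrank_Xd_inf (hm : Mo e σ B) (he : RL e) (r : Fin t) :
    k ^ t ≤ Module.finrank F ↥(LinearMap.ker (Matrix.toLin' (Xd (F := F) r σ B)) ⊓ fixS e) + 2 * k ^ (t - 1) := by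
  let g : fixS e →ₗ[F] LinearMap.range (Matrix.toLin' ((e : Ma F k t) - 1)) :=
    LinearMap.codRestrict _ (Matrix.toLin' (Xd (F := F) r σ B) ∘ₗ Submodule.subtype _)
      (fun v => by
        show Matrix.toLin' (Xd (F := F) r σ B) v.1 ∈ _
        rw [Matrix.toLin'_apply]; exact Xd_fix hm v.2)
  have h1 := LinearMap.finrank_range_add_finrank_ker g
  have h2 : Module.finrank F (LinearMap.range g) ≤ Module.finrank F (LinearMap.range (Matrix.toLin' ((e : Ma F k t) - 1))) :=
    Submodule.finrank_le _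
  have h3 := LinearMap.finrank_range_add_finrank_ker (Matrix.toLin' ((e : Ma F k t) - 1))
  rw [Module.finrank_fintype_fun_eq_card, Fintype.card_fun, Fintype.card_fin, Fintype.card_fin] at h3
  have h4 : Module.finrank F (LinearMap.ker (Matrix.toLin' ((e : Ma F k t) - 1))) = Module.finrank F (fixS e) := rfl
  have h5 := he.cod
  have h6 : Module.finrank F (LinearMap.ker g) ≤
      Module.finrank F ↥(LinearMap.ker (Matrix.toLin' (Xd (F := F) r σ B)) ⊓ fixS e) := by
    let q : LinearMap.ker g →ₗ[F] ↥(LinearMap.ker (Matrix.toLin' (Xd (F := F) r σ B)) ⊓ fixS e) :=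
      LinearMap.codRestrict _ (Submodule.subtype _ ∘ₗ Submodule.subtype _) (by
        rintro ⟨v, hv⟩
        refine ⟨?_, v.2⟩
        have := congrArg Subtype.val (LinearMap.mem_ker.1 hv)
        exact LinearMap.mem_ker.2 this)
    apply LinearMap.finrank_le_finrank_of_injective (f := q)
    intro a b hab
    have := congrArg Subtype.val hab
    exact Subtype.ext (Subtype.ext this)
  omega

/-- A root-like element of `W` moving a slot: `k = 3`. -/
theorem even_le_three (hk : 3 ≤ k) (hm : Mo e σ B) (he : RL e) {r : Fin t} (hr : σ r ≠ r) : k = 3 := by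
  have h1 := finrank_ker_Xd (F := F) (B := B) hk hr
  have h2 := finrank_Xd_inf hm he r
  have h3 : Module.finrank F ↥(LinearMap.ker (Matrix.toLin' (Xd (F := F) r σ B)) ⊓ fixS e) ≤
      Module.finrank F (LinearMap.ker (Matrix.toLin' (Xd (F := F) r σ B))) := Submodule.finrank_mono inf_le_left
  have h4 := pow_eq (k := k) r
  have h5 : 0 < k ^ (t - 1) := Nat.pos_of_ne_zero (pow_ne_zero _ (by omega))
  have h6 : k ^ (t - 1) * k ≤ k ^ (t - 1) * 3 := by rw [← h4]; omega
  have h7 := Nat.le_of_mul_le_mul_left h6 h5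
  omega

theorem ker_le_fix (hk : 3 ≤ k) (hm : Mo e σ B) (he : RL e) {r : Fin t} (hr : σ r ≠ r) :
    LinearMap.ker (Matrix.toLin' (Xd (F := F) r σ B)) ≤ fixS e := by
  have hk3 := even_le_three hk hm he hr
  have h1 := finrank_ker_Xd (F := F) (B := B) hk hr
  have h2 := finrank_Xd_inf hm he r
  have h4 := pow_eq (k := k) r
  have h5 : LinearMap.ker (Matrix.toLin' (Xd (F := F) r σ B)) ⊓ fixS e = LinearMap.ker (Matrix.toLin' (Xd (F := F) r σ B)) := by
    apply Submodule.eq_of_le_of_finrank_le inf_le_left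
    have : k ^ t = k ^ (t - 1) * 3 := by rw [h4]; rw [hk3]
    omega
  rw [← h5]
  exact inf_le_right

/-- A root-like element of `W` moves at most two slots. -/
theorem even_two (hk : 3 ≤ k) (hm : Mo e σ B) (he : RL e) {r l : Fin t} (hr : σ r ≠ r)
    (hl : σ l ≠ l) (hlr : l ≠ r) (hlr' : l ≠ σ r) : False := by
  have hk3 := even_le_three hk hm he hr
  have hker := ker_le_fix hk hm he hr
  have h2 := finrank_Xd_inf hm he r
  have hinf : LinearMap.ker (Matrix.toLin' (Xd (F := F) r σ B)) ⊓ fixS e = LinearMap.ker (Matrix.toLin' (Xd (F := F) r σ B)) :=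
    inf_eq_left.2 hker
  rw [hinf] at h2
  have h4 := pow_eq (k := k) r
  have h5 : 0 < k ^ (t - 1) := Nat.pos_of_ne_zero (pow_ne_zero _ (by omega))
  have hpos : 0 < Module.finrank F (LinearMap.ker (Matrix.toLin' (Xd (F := F) r σ B))) := by
    have : k ^ t = k ^ (t - 1) * 3 := by rw [h4]; rw [hk3]
    omega
  have hne : LinearMap.ker (Matrix.toLin' (Xd (F := F) r σ B)) ≠ ⊥ := by
    intro h
    rw [h, finrank_bot] at hpos
    omega
  obtain ⟨z, hz, hz0⟩ := Submodule.exists_mem_ne_zero_of_ne_bot hne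
  have hlr3 : σ l ≠ σ r := fun h => hlr (σ.injective h)
  -- sl_l(C) z = sl_{σ l}(C') z
  have key : ∀ (C : Mk F k) (z : (Fin t → Fin k) → F), z ∈ LinearMap.ker (Matrix.toLin' (Xd (F := F) r σ B)) →
      sl l C *ᵥ z ∈ LinearMap.ker (Matrix.toLin' (Xd (F := F) r σ B)) ∧
      sl l C *ᵥ z = sl (σ l) ((B l : Mk F k) * C * (((B l)⁻¹ : GL (Fin k) F) : Mk F k)) *ᵥ z := by
    intro C z hz
    have h1 : sl l C *ᵥ z ∈ LinearMap.ker (Matrix.toLin' (Xd (F := F) r σ B)) := by
      rw [LinearMap.mem_ker, Matrix.toLin'_apply, mulVec_mulVec]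
      have h6 : Xd (F := F) r σ B * sl l C = sl l C * Xd r σ B := by
        rw [Xd, sub_mul, mul_sub, (sl_comm hlr.symm _ _).eq, (sl_comm hlr'.symm _ _).eq]
      rw [h6, ← mulVec_mulVec]
      have := LinearMap.mem_ker.1 hz
      rw [Matrix.toLin'_apply] at this
      rw [this, mulVec_zero]
    refine ⟨h1, ?_⟩
    have h6 := mem_fixS.1 (hker h1)
    have h7 := mem_fixS.1 (hker hz)
    have h8 := congrArg (fun x => x *ᵥ z) (hm l C)
    simp only [← mulVec_mulVec] at h8
    rw [h7, h6] at h8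
    exact h8
  -- commutators
  have hcomm : ∀ C D : Mk F k, sl (σ l) (C * D) *ᵥ z = sl (σ l) (D * C) *ᵥ z := by
    intro C D
    have hc : ∀ A : Mk F k, (B l : Mk F k) * ((((B l)⁻¹ : GL (Fin k) F) : Mk F k) * A * (B l : Mk F k)) *
          (((B l)⁻¹ : GL (Fin k) F) : Mk F k) = A := by intro A; simp [mul_assoc]
    set C0 := (((B l)⁻¹ : GL (Fin k) F) : Mk F k) * C * (B l : Mk F k) with hC0
    set D0 := (((B l)⁻¹ : GL (Fin k) F) : Mk F k) * D * (B l : Mk F k) with hD0
    have hCC := hc C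
    have hDD := hc D
    rw [← hC0] at hCC
    rw [← hD0] at hDD
    have h1 := (key (C0 * D0) z hz).2
    have h6 : (B l : Mk F k) * (C0 * D0) * (((B l)⁻¹ : GL (Fin k) F) : Mk F k) = C * D := by
      have : (B l : Mk F k) * (C0 * D0) * (((B l)⁻¹ : GL (Fin k) F) : Mk F k) =
          ((B l : Mk F k) * C0 * (((B l)⁻¹ : GL (Fin k) F) : Mk F k)) *
            ((B l : Mk F k) * D0 * (((B l)⁻¹ : GL (Fin k) F) : Mk F k)) := by simp [mul_assoc]
      rw [this, hCC, hDD]
    rw [h6] at h1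
    rw [← h1, map_mul, ← mulVec_mulVec, (key D0 z hz).2, hDD, mulVec_mulVec, (sl_comm hl.symm _ _).eq,
      ← mulVec_mulVec, (key C0 z hz).2, hCC, mulVec_mulVec, ← map_mul]
  -- conclusion
  apply hz0
  have : NeZero k := ⟨by omega⟩
  have hE : ∀ a b : Fin k, a ≠ b → sl (σ l) (Matrix.single a b (1 : F)) *ᵥ z = 0 := by
    intro a b hab
    have h1 := hcomm (Matrix.single a b 1) (Matrix.single b b 1)
    rw [Matrix.single_mul_single_same, Matrix.single_mul_single_of_ne _ _ _ _ (Ne.symm hab), map_zero, zero_mulVec, mul_one] at h1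
    exact h1
  have hEaa : ∀ a : Fin k, sl (σ l) (Matrix.single a a (1 : F)) *ᵥ z = 0 := by
    intro a
    obtain ⟨b, hb⟩ : ∃ b : Fin k, b ≠ a := by
      by_contra hcon
      push Not at hcon
      have h1 := hcon ⟨0, by omega⟩
      have h2 := hcon ⟨1, by omega⟩
      rw [← h1] at h2
      simp at h2
    have h1 : (Matrix.single a a (1 : F) : Mk F k) = Matrix.single a b 1 * Matrix.single b a 1 := by
      rw [Matrix.single_mul_single_same, mul_one]
    rw [h1, map_mul, ← mulVec_mulVec, hE b a hb, mulVec_zero]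
  have h1 : (1 : Mk F k) = ∑ a : Fin k, Matrix.single a a 1 := by
    ext a b
    rw [Matrix.sum_apply, Matrix.one_apply]
    by_cases hab : a = b
    · subst hab
      rw [if_pos rfl, Finset.sum_eq_single a]
      · simp
      · intro c _ hc; rw [Matrix.single_apply, if_neg]; simp [hc]
      · intro h; exact absurd (Finset.mem_univ _) h
    · rw [if_neg hab, Finset.sum_eq_zero]
      intro c _
      rw [Matrix.single_apply, if_neg]
      rintro ⟨rfl, h⟩; exact hab h
  have h3 : z = sl (σ l) (1 : Mk F k) *ᵥ z := by rw [map_one, one_mulVec]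
  rw [h3, h1, map_sum, Matrix.sum_mulVec]
  exact Finset.sum_eq_zero (fun b _ => hEaa b)

/-- A root-like element which is a square in `W` fixes all slots. -/
theorem even_sq (hk : 3 ≤ k) {v : GLV F k t} (hv : v ∈ W F k t) (he : RL (v * v)) (i : Fin t) : Nm i (v * v) := by
  obtain ⟨τ, C, hC⟩ := hv
  have hm := hC.mul hC
  by_cases hi : (τ * τ) i = i
  · exact nm_of_Mo hm hi
  · exfalso
    have h0 : τ (τ i) ≠ i := hi
    refine even_two hk hm he (r := i) (l := τ i) hi ?_ ?_ ?_
    · show τ (τ (τ i)) ≠ τ i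
      intro h; exact h0 (τ.injective h)
    · intro h
      apply h0
      rw [h, h]
    · show τ i ≠ τ (τ i)
      intro h
      have h1 := τ.injective h
      apply h0
      rw [← h1, ← h1]

end Even

end Cfsg.Agent.H205.C7
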