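import Cfsg.Agent.H205.C7.Level

/-!
# Roots of the slots are TI modulo `W`
-/

set_option autoImplicit false
set_option linter.unusedSectionVars false

namespace Cfsg.Agent.H205.C7

open Matrix Cfsg.Agent.H889 Cfsg.Agent.H872 Cfsg.Agent.H873 Cfsg.Geo
open scoped Kronecker MatrixGroups commutatorElement

variable {F : Type*} [Field F] {k t : ℕ}

theorem Mo.slG {e : GLV F k t} {σ : Equiv.Perm (Fin t)} {B : Fin t → GL (Fin k) F} (h : Mo e σ B) (i : Fin t)
    (x : GL (Fin k) F) : e * slG i x * e⁻¹ = slG (σ i) (B i * x * (B i)⁻¹) := by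
  rw [mul_inv_eq_iff_eq_mul]
  apply Units.ext
  rw [Units.val_mul, Units.val_mul, coe_slG, coe_slG, Units.val_mul, Units.val_mul]
  exact h i (x : Mk F k)

theorem comm_of_conj {g d y : GLV F k t} (h : Commute y (g * d * g⁻¹)) : Commute (g⁻¹ * y * g) d := by
  show g⁻¹ * y * g * d = d * (g⁻¹ * y * g)
  have h1 : y * (g * d * g⁻¹) = g * d * g⁻¹ * y := h
  calc g⁻¹ * y * g * d = g⁻¹ * (y * (g * d * g⁻¹)) * g := by group
    _ = g⁻¹ * (g * d * g⁻¹ * y) * g := by rw [h1]
    _ = d * (g⁻¹ * y * g) := by group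

/-- Commuting with a root element is commuting with the nilpotent. -/
theorem comm_root {s : Fin t} {w ψ : Fin k → F} {h0 : ψ ⬝ᵥ w = 0} {y : GLV F k t} (h : Commute y (slG s (tv w ψ h0))) :
    (y : Ma F k t) * sl s (vecMulVec w ψ) = sl s (vecMulVec w ψ) * (y : Ma F k t) := by
  have h1 := congrArg Units.val h.eq
  rw [Units.val_mul, Units.val_mul, coe_slG, coe_tv, map_add, map_one, mul_add, add_mul, mul_one, one_mul] at h1
  exact add_left_cancel h1

/-- `g⁻¹ y g` acts on slot `s` by `B`. -/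
def PP (s : Fin t) (g y : GLV F k t) (B : GL (Fin k) F) : Prop := ∃ a, Cen s a ∧ g⁻¹ * y * g = a * slG s B

theorem PP.mul {s : Fin t} {g y y' : GLV F k t} {B B' : GL (Fin k) F} (h : PP s g y B) (h' : PP s g y' B') :
    PP s g (y * y') (B * B') := by
  obtain ⟨a, ha, e⟩ := h
  obtain ⟨a', ha', e'⟩ := h'
  refine ⟨a * a', (CG F k s).mul_mem ha ha', ?_⟩
  calc g⁻¹ * (y * y') * g = (g⁻¹ * y * g) * (g⁻¹ * y' * g) := by group
    _ = a * slG s B * (a' * slG s B') := by rw [e, e']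
    _ = a * (slG s B * a') * slG s B' := by group
    _ = a * (a' * slG s B) * slG s B' := by rw [(Cen.commute ha' B).eq]
    _ = a * a' * slG s (B * B') := by rw [map_mul]; group

theorem PP.inv {s : Fin t} {g y : GLV F k t} {B : GL (Fin k) F} (h : PP s g y B) : PP s g y⁻¹ B⁻¹ := by
  obtain ⟨a, ha, e⟩ := h
  refine ⟨a⁻¹, (CG F k s).inv_mem ha, ?_⟩
  calc g⁻¹ * y⁻¹ * g = (g⁻¹ * y * g)⁻¹ := by group
    _ = (a * slG s B)⁻¹ := by rw [e]
    _ = (slG s B * a)⁻¹ := by rw [(Cen.commute ha B).eq]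
    _ = a⁻¹ * slG s B⁻¹ := by rw [map_inv]; group

theorem PP.comm {s : Fin t} {g y y' : GLV F k t} {B B' : GL (Fin k) F} (h : PP s g y B) (h' : PP s g y' B') :
    PP s g ⁅y, y'⁆ ⁅B, B'⁆ := by
  rw [commutatorElement_def, commutatorElement_def]
  exact ((h.mul h').mul h.inv).mul h'.inv

/-- `x ↦ x` in slot `r` times `C x C⁻¹` in slot `r'`. -/
def qh {r r' : Fin t} (hne : r ≠ r') (C : GL (Fin k) F) : GL (Fin k) F →* GLV F k t where
  toFun x := slG r x * slG r' (C * x * C⁻¹)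
  map_one' := by rw [mul_one, mul_inv_cancel, map_one, map_one, mul_one]
  map_mul' x y := by
    have h1 := (slG_commute (F := F) hne y (C * x * C⁻¹)).eq
    have h2 : C * (x * y) * C⁻¹ = (C * x * C⁻¹) * (C * y * C⁻¹) := by group
    rw [h2, map_mul, map_mul]
    calc slG r x * slG r y * (slG r' (C * x * C⁻¹) * slG r' (C * y * C⁻¹))
        = slG r x * (slG r y * slG r' (C * x * C⁻¹)) * slG r' (C * y * C⁻¹) := by simp only [mul_assoc]
      _ = slG r x * (slG r' (C * x * C⁻¹) * slG r y) * slG r' (C * y * C⁻¹) := by rw [h1]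
      _ = _ := by simp only [mul_assoc]

theorem qh_apply {r r' : Fin t} (hne : r ≠ r') (C x : GL (Fin k) F) :
    (qh hne C x : GLV F k t) = slG r x * slG r' (C * x * C⁻¹) := rfl

variable {J : Finset (Fin t)} {M : Subgroup (GLV F k t)}

theorem nm_of_comm_root (hk : 3 ≤ k) (S : St J M) {s : Fin t} (hs : s ∈ J) {w ψ : Fin k → F} {h0 : ψ ⬝ᵥ w = 0}
    (hw : w ≠ 0) (hψ : ψ ≠ 0) {y : GLV F k t} (hy : y ∈ M) (hc : Commute y (slG s (tv w ψ h0))) : Nm s y :=
  stab hk (S.hx s hs) (S.nk s hs) hw hψ hy ⟨_, comm_root hc⟩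

/-- Involutions of `GL 3` are transvections, so they are root-like in the slots. -/
theorem rl_three [NeZero k] (hk : k = 3) {i : Fin t} {C : GL (Fin k) F}
    (hsq : ((C : Mk F k) - 1) * ((C : Mk F k) - 1) = 0) (h1 : C ≠ 1) : RL (slG i C : GLV F k t) := by
  have : Nonempty (Al k t i) := ⟨fun _ => 0⟩
  let D := Matrix.toLin' ((C : Mk F k) - 1)
  have hDD : ∀ v, D (D v) = 0 := by
    intro v
    rw [Matrix.toLin'_apply, Matrix.toLin'_apply, mulVec_mulVec, hsq, zero_mulVec]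
  have hle : LinearMap.range D ≤ LinearMap.ker D := by
    rintro _ ⟨v, rfl⟩; exact hDD v
  have h2 := Submodule.finrank_mono hle
  have h3 := LinearMap.finrank_range_add_finrank_ker D
  rw [Module.finrank_fintype_fun_eq_card, Fintype.card_fin] at h3
  have h4 : Module.finrank F (LinearMap.range D) ≠ 0 := by
    intro h
    have h5 := Submodule.finrank_eq_zero.1 h
    rw [LinearMap.range_eq_bot] at h5
    apply h1
    apply Units.ext
    rw [Units.val_one]
    have : (C : Mk F k) - 1 = 0 := by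
      have := congrArg LinearMap.toMatrix' h5
      rwa [LinearMap.toMatrix'_toLin', map_zero] at this
    exact sub_eq_zero.1 this
  have h5 : Module.finrank F (fixS C) = 2 := by
    have : Module.finrank F (LinearMap.ker D) = Module.finrank F (fixS C) := rfl
    omega
  refine ⟨?_, ?_⟩
  · rw [← finrank_fixS_RG i, RG_slG, finrank_fixS_one_kr, card_Al, h5, pow_eq i]
    have : k = 3 := hk
    have h6 : k ^ (t - 1) * k = k ^ (t - 1) * 3 := by rw [this]
    omega
  · rw [coe_slG]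
    have h6 : (sl i (C : Mk F k) - 1 : Ma F k t) = sl i ((C : Mk F k) - 1) := by rw [map_sub, map_one]
    rw [h6, ← map_mul, hsq, map_zero]

/-- Case (2b). -/
theorem no_swap (hk : k = 3) (h2 : (2 : F) = 0) (S : St J M) {r r' s : Fin t} (hne : r ≠ r') (hr : r ∈ J)
    (hJ : ∀ l ∈ J, l = r ∨ l = r') (hs : s ∈ J) {w ψ : Fin k → F} (h0 : ψ ⬝ᵥ w = 0) (hw : w ≠ 0)
    (hψ : ψ ≠ 0) {g : GLV F k t} (hg : g ∈ M) {σ : Equiv.Perm (Fin t)} {B : Fin t → GL (Fin k) F}
    (hm : Mo (g * slG s (tv w ψ h0) * g⁻¹) σ B) (hσ : σ r = r') : False := by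
  have hk3 : 3 ≤ k := hk.ge
  have : NeZero k := ⟨by omega⟩
  set e : GLV F k t := g * slG s (tv w ψ h0) * g⁻¹ with he
  have heM : e ∈ M := M.mul_mem (M.mul_mem hg (S.hx s hs _ _ _)) (M.inv_mem hg)
  have hadd : ∀ X : Mk F k, X + X = 0 := fun X => by rw [← two_smul F, h2, zero_smul]
  -- root elements are involutions
  have hinv : ∀ {w ψ : Fin k → F} (h0 : ψ ⬝ᵥ w = 0), tv w ψ h0 * tv w ψ h0 = 1 := by
    intro w ψ h0
    apply Units.ext
    rw [Units.val_mul, coe_tv, Units.val_one]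
    have h11 : vecMulVec w ψ * vecMulVec w ψ = (0 : Mk F k) := by
      rw [vecMulVec_mul_vecMulVec, h0, zero_smul, vecMulVec_zero]
    have e1 : (1 + vecMulVec w ψ) * (1 + vecMulVec w ψ : Mk F k) = 1 + (vecMulVec w ψ + vecMulVec w ψ) +
        vecMulVec w ψ * vecMulVec w ψ := by noncomm_ring
    rw [e1, h11, hadd]
    simp
  have hee : e * e = 1 := by
    have : e * e = g * slG s (tv w ψ h0 * tv w ψ h0) * g⁻¹ := by rw [he, map_mul]; group
    rw [this, hinv, map_one]; group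
  -- q
  set q : GL (Fin k) F →* GLV F k t := qh hne (B r) with hq
  have hqe : ∀ x, q x = slG r x * (e * slG r x * e⁻¹) := by
    intro x
    rw [hm.slG, hσ]; rfl
  have hqM : ∀ x ∈ Tr F k, q x ∈ M := by
    intro x hx
    rw [hqe]
    exact M.mul_mem ((S.hx r hr).tr hx) (M.mul_mem (M.mul_mem heM ((S.hx r hr).tr hx)) (M.inv_mem heM))
  have hei : e⁻¹ = e := inv_eq_of_mul_eq_one_left hee
  have hqc : ∀ x, Commute (q x) e := by
    intro x
    have h1 : slG r x * (e * slG r x * e⁻¹) = (e * slG r x * e⁻¹) * slG r x := by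
      rw [hm.slG, hσ]; exact (slG_commute hne _ _).eq
    show q x * e = e * q x
    rw [hqe, hei] at *
    calc slG r x * (e * slG r x * e) * e = slG r x * e * slG r x * (e * e) := by group
      _ = slG r x * e * slG r x := by rw [hee, mul_one]
      _ = (e * e) * (slG r x * e * slG r x) := by rw [hee, one_mul]
      _ = e * ((e * slG r x * e) * slG r x) := by group
      _ = e * (slG r x * (e * slG r x * e)) := by rw [h1]
  -- level 0
  have hN : ∀ x ∈ Tr F k, ∃ C : GL (Fin k) F, PP s g (q x) C ∧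
      (C : Mk F k) * vecMulVec w ψ = vecMulVec w ψ * (C : Mk F k) := by
    intro x hx
    have h1 : Commute (g⁻¹ * q x * g) (slG s (tv w ψ h0)) := comm_of_conj (hqc x)
    have h2 : g⁻¹ * q x * g ∈ M := M.mul_mem (M.mul_mem (M.inv_mem hg) (hqM x hx)) hg
    obtain ⟨a, C, ha, hC⟩ := nm_of_comm_root hk3 S hs hw hψ h2 h1
    refine ⟨C, ⟨a, ha, hC⟩, ?_⟩
    have h3 := comm_root h1
    rw [hC, Units.val_mul, coe_slG, mul_assoc, ← map_mul, ← mul_assoc, ← (ha (vecMulVec w ψ)).eq, mul_assoc,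
      ← map_mul] at h3
    have h4 := congrArg (fun X => ((a⁻¹ : GLV F k t) : Ma F k t) * X) h3
    simp only [Units.inv_mul_cancel_left] at h4
    exact sl_injective (k := k) s h4
  have hroot : ∀ {w' ψ' : Fin k → F} (h' : ψ' ⬝ᵥ w' = 0), ψ' ≠ 0 → ∃ (b c : Fin k → F) (hb : b ⬝ᵥ w' = 0)
      (hc : ψ' ⬝ᵥ c = 0), b ≠ 0 ∧ ⁅q (tv w' b hb), q (tv c ψ' hc)⁆ = q (tv w' ψ' h') := by
    intro w' ψ' h' hψ'
    obtain ⟨b, c, hb, hc, hb0, -, h⟩ := root_comm hk3 h' hψ'
    exact ⟨b, c, hb, hc, hb0, by rw [← h, map_commutatorElement]⟩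
  have h1 : ∀ {w' ψ' : Fin k → F} (h' : ψ' ⬝ᵥ w' = 0), ψ' ≠ 0 → ∃ C, PP s g (q (tv w' ψ' h')) C ∧ J1 w ψ C := by
    intro w' ψ' h' hψ'
    obtain ⟨b, c, hb, hc, -, h⟩ := hroot h' hψ'
    obtain ⟨C, hC, hCN⟩ := hN _ (tv_mem_Tr hb)
    obtain ⟨C', hC', hCN'⟩ := hN _ (tv_mem_Tr hc)
    refine ⟨⁅C, C'⁆, ?_, level1 hk h0 hw hψ hCN hCN'⟩
    rw [← h]; exact hC.comm hC'
  have h2' : ∀ {w' ψ' : Fin k → F} (h' : ψ' ⬝ᵥ w' = 0), ψ' ≠ 0 → ∃ C, PP s g (q (tv w' ψ' h')) C ∧
      ∃ c : F, (C : Mk F k) = 1 + c • vecMulVec w ψ := by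
    intro w' ψ' h' hψ'
    obtain ⟨b, c, hb, hc, hb0, h⟩ := hroot h' hψ'
    obtain ⟨C, hC, hCN⟩ := h1 hb hb0
    obtain ⟨C', hC', hCN'⟩ := h1 hc hψ'
    refine ⟨⁅C, C'⁆, ?_, level2 h0 hψ hCN hCN'⟩
    rw [← h]; exact hC.comm hC'
  have h3' : ∀ {w' ψ' : Fin k → F} (h' : ψ' ⬝ᵥ w' = 0), ψ' ≠ 0 → Cen s (g⁻¹ * q (tv w' ψ' h') * g) := by
    intro w' ψ' h' hψ'
    obtain ⟨b, c, hb, hc, hb0, h⟩ := hroot h' hψ'
    obtain ⟨C, hC, x, hCN⟩ := h2' hb hb0
    obtain ⟨C', hC', x', hCN'⟩ := h2' hc hψ'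
    have h4 := hC.comm hC'
    rw [h, level3 hCN hCN'] at h4
    obtain ⟨a, ha, h5⟩ := h4
    rw [map_one, mul_one] at h5
    rw [h5]; exact ha
  -- the end
  have hk' : 3 ≤ Fintype.card (Fin k) := by simpa using hk3
  obtain ⟨w', hw'⟩ := exists_dual_one (F := F) (k := k) (by omega)
  obtain ⟨ψ', hψ', h', -⟩ := exists_kill_two (F := F) hk' w' w'
  set x : GL (Fin k) F := tv w' ψ' h' with hx
  set f : GLV F k t := g⁻¹ * q x * g with hf
  have hfM : f ∈ M := M.mul_mem (M.mul_mem (M.inv_mem hg) (hqM x (tv_mem_Tr h'))) hg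
  have hfC : Cen s f := h3' h' hψ'
  have hff : f * f = 1 := by
    have : f * f = g⁻¹ * (q (x * x)) * g := by rw [hf, map_mul]; group
    rw [this, hx, hinv, map_one]; group
  have hqcr : ¬ Cen r (q x) := by
    intro h
    have h4 : ∀ A : Mk F k, Commute (x : Mk F k) A := by
      intro A
      apply sl_injective (k := k) r
      rw [map_mul, map_mul]
      have h5 := (h A).eq
      rw [hq, qh_apply, Units.val_mul, coe_slG, coe_slG] at h5
      set X := (sl r' ((B r * x * (B r)⁻¹ : GL (Fin k) F) : Mk F k) : Ma F k t) with hX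
      have h6 : X * sl r A = sl r A * X := (sl_comm (Ne.symm hne) _ _).eq
      rw [mul_assoc, h6, ← mul_assoc, ← mul_assoc] at h5
      have h7 : X = ((slG r' (B r * x * (B r)⁻¹) : GLV F k t) : Ma F k t) := rfl
      rw [h7] at h5
      have h8 := congrArg (fun Y => Y * (((slG r' (B r * x * (B r)⁻¹) : GLV F k t)⁻¹ : GLV F k t) : Ma F k t)) h5
      simpa [mul_assoc] using h8
    obtain ⟨c, hc⟩ := scalar_of_forall_comm h4
    exact not_scalar_vec h' hw' hψ' c hc
  have hq1 : q x ≠ 1 := by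
    intro h
    apply hqcr
    rw [h]; exact (CG F k r).one_mem
  have hf1 : f ≠ 1 := by
    intro h
    apply hq1
    have : q x = g * f * g⁻¹ := by rw [hf]; group
    rw [this, h]; group
  -- the other slot
  obtain ⟨s', hss, hJ'⟩ : ∃ s', s' ≠ s ∧ ∀ l ∈ J, l = s ∨ l = s' := by
    rcases hJ s hs with h | h
    · subst h; exact ⟨r', hne.symm, hJ⟩
    · subst h; exact ⟨r, hne, fun l hl => (hJ l hl).symm⟩
  obtain ⟨C, hC⟩ : ∃ C : Mk F k, (f : Ma F k t) = sl s' C := by
    apply exists_sl_of_comm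
    intro l hl A
    by_cases hls : l = s
    · subst hls; exact hfC A
    · by_cases hlJ : l ∈ J
      · exact absurd (hJ' l hlJ) (by simp [hls, hl])
      · exact S.out l hlJ f hfM A
  have hCC : C * C = 1 := by
    apply sl_injective (k := k) s'
    rw [map_mul, ← hC, ← Units.val_mul, hff, Units.val_one, map_one]
  have hC1 : C ≠ 1 := by
    intro h
    apply hf1
    apply Units.ext
    rw [hC, h, map_one, Units.val_one]
  let C' : GL (Fin k) F := ⟨C, C, hCC, hCC⟩
  have hfC' : f = slG s' C' := Units.ext hC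
  have hRf : RL f := by
    rw [hfC']
    refine rl_three hk ?_ ?_
    · show (C - 1) * (C - 1) = 0
      have : (C - 1) * (C - 1) = C * C + 1 - (C + C) := by noncomm_ring
      rw [this, hCC, hadd, hadd, sub_zero]
    · intro h
      exact hC1 (congrArg Units.val h)
  have hqf : q x = g * f * g⁻¹ := by rw [hf]; group
  have hRq : RL (q x) := by rw [hqf]; exact hRf.conj g
  have hnq : Nm r (q x) := by
    refine ⟨slG r' (B r * x * (B r)⁻¹), x, cen_slG hne _, ?_⟩
    rw [hq, qh_apply]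
    exact (slG_commute hne _ _).eq
  rcases dich hk3 hRq hnq with h | ⟨w'', ψ'', h'', -, -, h⟩
  · exact hqcr h
  · rw [hq, qh_apply] at h
    have h4 : (slG r' (B r * x * (B r)⁻¹) : GLV F k t) = slG r (x⁻¹ * tv w'' ψ'' h'') := by
      have h9 : (slG r (x⁻¹ * tv w'' ψ'' h'') : GLV F k t) = (slG r x)⁻¹ * slG r (tv w'' ψ'' h'') := by
        rw [map_mul, map_inv]
      rw [h9, ← h]; group
    obtain ⟨c, hc⟩ := scalar_of_sl_eq (Ne.symm hne) (congrArg Units.val h4)
    apply not_scalar_vec h' hw' hψ' c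
    have h5 : (x : Mk F k) = (((B r)⁻¹ : GL (Fin k) F) : Mk F k) * ((B r * x * (B r)⁻¹ : GL (Fin k) F) : Mk F k) * (B r : Mk F k) := by
      simp [mul_assoc]
    show (x : Mk F k) = _
    rw [h5, hc]
    simp

/-- **TI**. -/
theorem TI [Finite F] (hk : 3 ≤ k) (S : St J M) (IH : ∀ r ∈ J, M ⊓ CG F k r ≤ W F k t) {s : Fin t} (hs : s ∈ J)
    {w ψ : Fin k → F} (h0 : ψ ⬝ᵥ w = 0) (hw : w ≠ 0) (hψ : ψ ≠ 0) {g : GLV F k t} (hg : g ∈ M)
    (he : g * slG s (tv w ψ h0) * g⁻¹ ∈ W F k t) : g ∈ W F k t := by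
  have : NeZero k := ⟨by omega⟩
  have : NeZero t := ⟨by have := s.2; omega⟩
  have hRd : RL (slG s (tv w ψ h0) : GLV F k t) := rl_of_rt ⟨w, ψ, h0, hw, hψ, rfl⟩
  have hRe := hRd.conj g
  have heM : g * slG s (tv w ψ h0) * g⁻¹ ∈ M := M.mul_mem (M.mul_mem hg (S.hx s hs _ _ _)) (M.inv_mem hg)
  -- if all slots are normalised
  have caseA : (∀ i ∈ J, Nm i (g * slG s (tv w ψ h0) * g⁻¹)) → g ∈ W F k t := by
    intro hn
    obtain ⟨r, hr, hR⟩ := exists_slot hk hRe (fun i hi => S.out i hi _ heM) hn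
    exact C1 hk S IH hs hr hg h0 hw hψ (LL_of_rt hR)
  by_cases h2 : (2 : F) = 0
  · obtain ⟨σ, B, hm⟩ := he
    by_cases hfix : ∀ i ∈ J, σ i = i
    · exact caseA (fun i hi => nm_of_Mo hm (hfix i hi))
    push Not at hfix
    obtain ⟨r, hr, hσr⟩ := hfix
    have hk3 := even_le_three hk hm hRe hσr
    by_cases hthree : ∃ l ∈ J, l ≠ r ∧ l ≠ σ r
    · -- (2a)
      obtain ⟨l, hl, hlr, hlr'⟩ := hthree
      have hσl : σ l = l := by
        by_contra h
        exact even_two hk hm hRe hσr h hlr hlr'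
      have hcl : Cen l (g * slG s (tv w ψ h0) * g⁻¹) := by
        rcases dich hk hRe (nm_of_Mo hm hσl) with h | ⟨w', ψ', h', hw', hψ', h⟩
        · exact h
        · exfalso
          have h1 : ∀ A : Mk F k, (sl r A : Ma F k t) =
              sl (σ r) ((B r : Mk F k) * A * (((B r)⁻¹ : GL (Fin k) F) : Mk F k)) := by
            intro A
            have h2 := hm r A
            rw [h, coe_slG, (sl_comm hlr _ _).eq] at h2
            have h3 := congrArg (fun Y => Y * (((slG l (tv w' ψ' h') : GLV F k t)⁻¹ : GLV F k t) : Ma F k t)) h2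
            have h4 : (sl l ((tv w' ψ' h' : GL (Fin k) F) : Mk F k) : Ma F k t) =
              ((slG l (tv w' ψ' h') : GLV F k t) : Ma F k t) := rfl
            rw [h4] at h3
            simpa [mul_assoc] using h3
          obtain ⟨c, hc⟩ := scalar_of_sl_eq (Ne.symm hσr) (h1 ((tv w ψ h0 : GL (Fin k) F) : Mk F k))
          exact not_scalar_vec h0 hw hψ c hc
      have hfM : ∀ x ∈ Tr F k, g⁻¹ * slG l x * g ∈ M := fun x hx =>
        M.mul_mem (M.mul_mem (M.inv_mem hg) ((S.hx l hl).tr hx)) hg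
      have hfn : ∀ x ∈ Tr F k, Nm s (g⁻¹ * slG l x * g) := by
        intro x hx
        exact nm_of_comm_root hk S hs hw hψ (hfM x hx) (comm_of_conj (Cen.commute hcl x).symm)
      -- from a root to a root
      have hC1 : ∀ {w' ψ' : Fin k → F} (h' : ψ' ⬝ᵥ w' = 0), w' ≠ 0 → ψ' ≠ 0 → ∀ r' ∈ J,
          Rt r' (g⁻¹ * slG l (tv w' ψ' h') * g) → g ∈ W F k t := by
        intro w' ψ' h' hw' hψ' r' hr' hR
        have h1 : Rt r' (g⁻¹ * slG l (tv w' ψ' h') * g⁻¹⁻¹) := by rw [inv_inv]; exact hR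
        have h2 := C1 hk S IH hl hr' (M.inv_mem hg) h' hw' hψ' (LL_of_rt h1)
        rw [← inv_inv g]
        exact (W F k t).inv_mem h2
      by_cases hex : ∃ (w' ψ' : Fin k → F) (h' : ψ' ⬝ᵥ w' = 0), w' ≠ 0 ∧ ψ' ≠ 0 ∧
          Rt s (g⁻¹ * slG l (tv w' ψ' h') * g)
      · obtain ⟨w', ψ', h', hw', hψ', hR⟩ := hex
        exact hC1 h' hw' hψ' s hs hR
      · push Not at hex
        have hroot : ∀ (w' ψ' : Fin k → F) (h' : ψ' ⬝ᵥ w' = 0), Cen s (g⁻¹ * slG l (tv w' ψ' h') * g) := by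
          intro w' ψ' h'
          by_cases hw' : w' = 0
          · have : tv w' ψ' h' = 1 := by
              apply Units.ext
              rw [coe_tv, hw', zero_vecMulVec, add_zero, Units.val_one]
            rw [this, map_one]
            have : g⁻¹ * 1 * g = 1 := by group
            rw [this]; exact (CG F k s).one_mem
          by_cases hψ' : ψ' = 0
          · have : tv w' ψ' h' = 1 := by
              apply Units.ext
              rw [coe_tv, hψ', vecMulVec_zero, add_zero, Units.val_one]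
            rw [this, map_one]
            have : g⁻¹ * 1 * g = 1 := by group
            rw [this]; exact (CG F k s).one_mem
          have hRf : RL (g⁻¹ * slG l (tv w' ψ' h') * g) := by
            have := (rl_of_rt (i := l) ⟨w', ψ', h', hw', hψ', rfl⟩).conj (F := F) (k := k) (t := t) g⁻¹
            rwa [inv_inv] at this
          rcases dich hk hRf (hfn _ (tv_mem_Tr h')) with h | h
          · exact h
          · exact absurd h (hex w' ψ' h' hw' hψ')
        have hall : ∀ x ∈ Tr F k, Cen s (g⁻¹ * slG l x * g) := by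
          intro x hx
          have : Tr F k ≤ (CG F k s).comap ((MulAut.conj g⁻¹).toMonoidHom.comp (slG l)) := by
            unfold Tr
            rw [Subgroup.closure_le]
            rintro _ ⟨w', ψ', h', rfl⟩
            show Cen s (g⁻¹ * slG l (tv w' ψ' h') * g⁻¹⁻¹)
            rw [inv_inv]; exact hroot w' ψ' h'
          have h1 : Cen s (g⁻¹ * slG l x * g⁻¹⁻¹) := this hx
          rwa [inv_inv] at h1
        obtain ⟨v, hv, w', ψ', h', hw', hψ', hvv⟩ := exists_sqrt (F := F) hk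
        have hyW : g⁻¹ * slG l v * g ∈ W F k t := IH s hs ⟨hfM v hv, hall v hv⟩
        have hyy : (g⁻¹ * slG l v * g) * (g⁻¹ * slG l v * g) = g⁻¹ * slG l (tv w' ψ' h') * g := by
          rw [← hvv, map_mul]; group
        have hRf : RL (g⁻¹ * slG l (tv w' ψ' h') * g) := by
          have := (rl_of_rt (i := l) ⟨w', ψ', h', hw', hψ', rfl⟩).conj (F := F) (k := k) (t := t) g⁻¹
          rwa [inv_inv] at this
        rw [← hyy] at hRf
        obtain ⟨r', hr', hR⟩ := exists_slot hk hRf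
          (fun j hj => S.out j hj _ (M.mul_mem (hfM v hv) (hfM v hv))) (fun j _ => even_sq hk hyW hRf j)
        rw [hyy] at hR
        exact hC1 h' hw' hψ' r' hr' hR
    · -- (2b)
      exfalso
      push Not at hthree
      exact no_swap hk3 h2 S (r := r) (r' := σ r) (Ne.symm hσr) hr
        (fun l hl => by by_contra h; push Not at h; exact h.2 (hthree l hl h.1)) hs h0 hw hψ hg hm rfl
  · obtain ⟨p, hp⟩ := CharP.exists F
    have hpp : p.Prime := CharP.char_is_prime F p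
    apply caseA
    intro i _
    refine odd_fix hk hpp ?_ he hRe.sq i
    rintro rfl
    exact h2 (by exact_mod_cast CharP.cast_eq_zero F 2)

end Cfsg.Agent.H205.C7
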