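import Cfsg.Agent.H205.C7.OddFin
import Cfsg.Agent.H205.C7.EvenFin

/-!
# Theorem T: overgroups of the product of the `SL` in the slots in `J` without elements `1 + y sl_i(w ψ)`, `y` non-scalar
-/

set_option autoImplicit false
set_option linter.unusedSectionVars false

namespace Cfsg.Agent.H205.C7

open Matrix Cfsg.Agent.H889 Cfsg.Agent.H872 Cfsg.Agent.H873 Cfsg.Geo
open scoped Kronecker MatrixGroups

universe u

variable {F : Type u} [Field F] {k t : ℕ}

/-- The cited theorems. -/
structure Cited : Prop where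
  odd : H891.QP.OddOrder.{u}
  z : EvenTI.ZStar.{u}
  s : EvenTI.StrClosed.{u}
  e : EvenTI.SEConj.{u}

theorem thmT_aux [Finite F] (C : Cited.{u}) (hk : 3 ≤ k) : ∀ (n : ℕ) (J : Finset (Fin t)) (M : Subgroup (GLV F k t)),
    J.card = n → St J M → M ≤ W F k t := by
  have : NeZero k := ⟨by omega⟩
  intro n
  induction n using Nat.strong_induction_on with
  | _ n ih =>
  intro J M hn S
  by_cases h0 : n = 0
  · -- no slots
    intro g hg
    rw [h0, Finset.card_eq_zero] at hn
    subst hn
    exact mem_W_of_LL (by omega) (fun i => ⟨i, fun A => ⟨A, (S.out i (Finset.notMem_empty i) g hg A).eq⟩⟩)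
  by_cases h1 : n = 1
  · -- one slot
    intro g hg
    rw [h1, Finset.card_eq_one] at hn
    obtain ⟨s, rfl⟩ := hn
    refine mem_W_of_LL (by omega) (fun i => ⟨i, fun A => ?_⟩)
    by_cases his : i = s
    · subst his
      have h2 : ∀ g ∈ M, ∃ B : Mk F k, (g : Ma F k t) = sl i B := by
        intro g hg
        exact exists_sl_of_comm (fun j hj => S.out j (by simpa using hj) g hg)
      obtain ⟨B, hB⟩ := h2 g hg
      obtain ⟨B', hB'⟩ := h2 g⁻¹ (M.inv_mem hg)
      refine ⟨B * A * B', ?_⟩
      rw [map_mul, map_mul, ← hB, ← hB', mul_assoc, Units.inv_mul, mul_one]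
    · exact ⟨A, (S.out i (by simpa using his) g hg A).eq⟩
  -- at least two slots
  have h2 : 1 < J.card := by omega
  obtain ⟨i, hi, j, hj, hij⟩ := Finset.one_lt_card.1 h2
  have IH : ∀ r ∈ J, M ⊓ CG F k r ≤ W F k t := by
    intro r hr
    exact ih (J.erase r).card (by rw [Finset.card_erase_of_mem hr]; omega) (J.erase r) _ rfl S.erase
  by_cases hp : (2 : F) = 0
  · exact even_step C.z C.s C.e hk hp S IH hi hj hij
  · exact odd_step C.odd hk hp S IH hi

/-- **Theorem T.** -/
theorem thmT [Finite F] (C : Cited.{u}) (hk : 3 ≤ k) {J : Finset (Fin t)} {M : Subgroup (GLV F k t)} (S : St J M) :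
    M ≤ W F k t := thmT_aux C hk _ J M rfl S

end Cfsg.Agent.H205.C7
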