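import Cfsg.Agent.H205.C7.Root

/-!
# Uniqueness of the slot of a root element (F2)

If `g ∈ M` conjugates a root element of slot `i` to a root element of slot `r`, then it conjugates the slot algebra `i`
into the slot algebra `r`.
-/

set_option autoImplicit false
set_option linter.unusedSectionVars false

namespace Cfsg.Agent.H205.C7

open Matrix Cfsg.Agent.H889 Cfsg.Agent.H872 Cfsg.Agent.H873
open scoped Kronecker MatrixGroups

variable {F : Type*} [Field F] {k t : ℕ}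

/-- `g sl_i(A) g⁻¹ ∈ sl_r(Mat)`. -/
def LL (i r : Fin t) (g : GLV F k t) (A : Mk F k) : Prop := ∃ B : Mk F k, (g : Ma F k t) * sl i A = sl r B * (g : Ma F k t)

theorem LL.add {i r : Fin t} {g : GLV F k t} {A A' : Mk F k} (h : LL i r g A) (h' : LL i r g A') :
    LL i r g (A + A') := by
  obtain ⟨B, hB⟩ := h
  obtain ⟨B', hB'⟩ := h'
  exact ⟨B + B', by rw [map_add, map_add, mul_add, add_mul, hB, hB']⟩

theorem LL.smul {i r : Fin t} {g : GLV F k t} {A : Mk F k} (c : F) (h : LL i r g A) : LL i r g (c • A) := by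
  obtain ⟨B, hB⟩ := h
  exact ⟨c • B, by rw [map_smul, map_smul, mul_smul_comm, smul_mul_assoc, hB]⟩

theorem LL.zero (i r : Fin t) (g : GLV F k t) : LL i r g 0 := ⟨0, by rw [map_zero, map_zero, mul_zero, zero_mul]⟩

theorem LL.mul {i r : Fin t} {g : GLV F k t} {A A' : Mk F k} (h : LL i r g A) (h' : LL i r g A') :
    LL i r g (A * A') := by
  obtain ⟨B, hB⟩ := h
  obtain ⟨B', hB'⟩ := h'
  exact ⟨B * B', by rw [map_mul, map_mul, ← mul_assoc, hB, mul_assoc, hB', mul_assoc]⟩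

theorem LL.sum {i r : Fin t} {g : GLV F k t} {ι : Type*} (s : Finset ι) (A : ι → Mk F k) (h : ∀ j ∈ s, LL i r g (A j)) :
    LL i r g (∑ j ∈ s, A j) := by
  classical
  induction s using Finset.induction_on with
  | empty => exact LL.zero i r g
  | insert a s ha ih =>
    rw [Finset.sum_insert ha]
    exact (h a (Finset.mem_insert_self a s)).add (ih (fun j hj => h j (Finset.mem_insert_of_mem hj)))

theorem sl_mul_self_zero {i : Fin t} {w ψ : Fin k → F} (h0 : ψ ⬝ᵥ w = 0) :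
    sl i (vecMulVec w ψ) * sl i (vecMulVec w ψ) = (0 : Ma F k t) := by
  rw [← map_mul, vecMulVec_mul_vecMulVec, h0, zero_smul, vecMulVec_zero, map_zero]

/-- An element of `sl_r(Mat)` conjugate to a root nilpotent. -/
theorem rt_of_LL {i r : Fin t} {g : GLV F k t} [NeZero k] {w ψ : Fin k → F} (h0 : ψ ⬝ᵥ w = 0) (hw : w ≠ 0) (hψ : ψ ≠ 0)
    (hL : LL i r g (vecMulVec w ψ)) : Rt r (g * slG i (tv w ψ h0) * g⁻¹) := by
  obtain ⟨B, hB⟩ := hL
  have hB' : (g : Ma F k t) * sl i (vecMulVec w ψ) * ((g⁻¹ : GLV F k t) : Ma F k t) = sl r B := by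
    rw [hB, mul_assoc, Units.mul_inv, mul_one]
  have hBB : B * B = 0 := by
    apply sl_injective (k := k) r
    rw [map_mul, ← hB', map_zero]
    calc (g : Ma F k t) * sl i (vecMulVec w ψ) * ((g⁻¹ : GLV F k t) : Ma F k t) *
          ((g : Ma F k t) * sl i (vecMulVec w ψ) * ((g⁻¹ : GLV F k t) : Ma F k t))
        = (g : Ma F k t) * (sl i (vecMulVec w ψ) * (((g⁻¹ : GLV F k t) : Ma F k t) * (g : Ma F k t)) *
            sl i (vecMulVec w ψ)) * ((g⁻¹ : GLV F k t) : Ma F k t) := by simp only [mul_assoc]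
      _ = 0 := by rw [Units.inv_mul, mul_one, sl_mul_self_zero h0, mul_zero, zero_mul]
  let C : GL (Fin k) F := ⟨1 + B, 1 - B, by
    have : (1 + B) * (1 - B) = 1 - B * B := by noncomm_ring
    rw [this, hBB, sub_zero], by
    have : (1 - B) * (1 + B) = 1 - B * B := by noncomm_ring
    rw [this, hBB, sub_zero]⟩
  have he : g * slG i (tv w ψ h0) * g⁻¹ = slG r C := by
    apply Units.ext
    rw [coe_slG, Units.val_mul, Units.val_mul, coe_slG, coe_tv, map_add, map_one, mul_add, add_mul, mul_one,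
      Units.mul_inv, hB']
    show _ = sl r (1 + B)
    rw [map_add, map_one]
  have h1 : RL (g * slG i (tv w ψ h0) * g⁻¹) := (rl_of_rt ⟨w, ψ, h0, hw, hψ, rfl⟩).conj g
  rw [he] at h1 ⊢
  exact rt_of_slG h1

theorem LL_of_rt {i r : Fin t} {g : GLV F k t} {w ψ : Fin k → F} {h0 : ψ ⬝ᵥ w = 0}
    (h : Rt r (g * slG i (tv w ψ h0) * g⁻¹)) : LL i r g (vecMulVec w ψ) := by
  obtain ⟨w', ψ', h0', -, -, he⟩ := h
  refine ⟨vecMulVec w' ψ', ?_⟩
  have h1 : g * slG i (tv w ψ h0) = slG r (tv w' ψ' h0') * g := by rw [← he]; group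
  have h2 := congrArg Units.val h1
  rw [Units.val_mul, Units.val_mul, coe_slG, coe_slG, coe_tv, coe_tv, map_add, map_add, map_one, map_one, mul_add,
    add_mul, mul_one, one_mul] at h2
  exact add_left_cancel h2

variable {M : Subgroup (GLV F k t)} {i r : Fin t} {g : GLV F k t}

/-- The rule. -/
theorem LL.rule (hk : 3 ≤ k) (hXi : HX i M) (hXr : HX r M) (hNr : NoK r M) (hg : g ∈ M) {w ψ : Fin k → F}
    (h0 : ψ ⬝ᵥ w = 0) (hw : w ≠ 0) (hψ : ψ ≠ 0) (hL : LL i r g (vecMulVec w ψ)) {w₂ ψ₂ : Fin k → F}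
    (h22 : ψ₂ ⬝ᵥ w₂ = 0) (h2w : ψ₂ ⬝ᵥ w = 0) (hne : ψ ⬝ᵥ w₂ ≠ 0) : LL i r g (vecMulVec w₂ ψ₂) := by
  have : NeZero k := ⟨by omega⟩
  by_cases hψ₂ : ψ₂ = 0
  · rw [hψ₂, vecMulVec_zero]; exact LL.zero i r g
  have hw₂ : w₂ ≠ 0 := by
    rintro rfl
    exact hne (dotProduct_zero _)
  obtain ⟨w₀, ψ₀, h00, hw₀, hψ₀, he⟩ := rt_of_LL h0 hw hψ hL
  have hN0 : (g : Ma F k t) * sl i (vecMulVec w ψ) = sl r (vecMulVec w₀ ψ₀) * (g : Ma F k t) := by
    have h1 : g * slG i (tv w ψ h0) = slG r (tv w₀ ψ₀ h00) * g := by rw [← he]; group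
    have h2 := congrArg Units.val h1
    rw [Units.val_mul, Units.val_mul, coe_slG, coe_slG, coe_tv, coe_tv, map_add, map_add, map_one, map_one, mul_add,
      add_mul, mul_one, one_mul] at h2
    exact add_left_cancel h2
  have hN0' : sl r (vecMulVec w₀ ψ₀) = (g : Ma F k t) * sl i (vecMulVec w ψ) * ((g⁻¹ : GLV F k t) : Ma F k t) := by
    rw [hN0, mul_assoc, Units.mul_inv, mul_one]
  set x : GLV F k t := g * slG i (tv w₂ ψ₂ h22) * g⁻¹ with hx
  have hxM : x ∈ M := M.mul_mem (M.mul_mem hg (hXi _ _ _)) (M.inv_mem hg)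
  have hxR : RL x := (rl_of_rt ⟨w₂, ψ₂, h22, hw₂, hψ₂, rfl⟩).conj g
  have hxv : (x : Ma F k t) = (g : Ma F k t) * (1 + sl i (vecMulVec w₂ ψ₂)) * ((g⁻¹ : GLV F k t) : Ma F k t) := by
    rw [hx, Units.val_mul, Units.val_mul, coe_slG, coe_tv, map_add, map_one]
  have hxz : (x : Ma F k t) * sl r (vecMulVec w₀ ψ₀) = sl r (vecMulVec w₀ ψ₀) * 1 := by
    rw [hxv, hN0', mul_one]
    calc (g : Ma F k t) * (1 + sl i (vecMulVec w₂ ψ₂)) * ((g⁻¹ : GLV F k t) : Ma F k t) *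
          ((g : Ma F k t) * sl i (vecMulVec w ψ) * ((g⁻¹ : GLV F k t) : Ma F k t))
        = (g : Ma F k t) * ((1 + sl i (vecMulVec w₂ ψ₂)) * (((g⁻¹ : GLV F k t) : Ma F k t) * (g : Ma F k t)) *
            sl i (vecMulVec w ψ)) * ((g⁻¹ : GLV F k t) : Ma F k t) := by simp only [mul_assoc]
      _ = _ := by
        rw [Units.inv_mul, mul_one, add_mul, one_mul, ← map_mul, vecMulVec_mul_vecMulVec, h2w, zero_smul,
          vecMulVec_zero, map_zero, add_zero]
  have hnx : Nm r x := stab hk hXr hNr hw₀ hψ₀ hxM ⟨1, hxz⟩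
  rcases dich hk hxR hnx with hc | hR
  · exfalso
    have h1 := (hc (vecMulVec w₀ ψ₀)).eq
    rw [hxz, mul_one, hN0', hxv] at h1
    have h2 : sl i (vecMulVec w ψ) = sl i (vecMulVec w ψ) * (1 + sl i (vecMulVec w₂ ψ₂) : Ma F k t) := by
      have h3 := congrArg (fun z => ((g⁻¹ : GLV F k t) : Ma F k t) * z * (g : Ma F k t)) h1
      simp only [mul_assoc, Units.inv_mul, mul_one, Units.inv_mul_cancel_left] at h3
      exact h3
    rw [mul_add, mul_one, ← map_mul, vecMulVec_mul_vecMulVec, left_eq_add] at h2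
    have h3 : vecMulVec w ((ψ ⬝ᵥ w₂) • ψ₂) = 0 := by
      apply sl_injective (k := k) i
      rw [h2, map_zero]
    obtain ⟨a, ha⟩ := Function.ne_iff.1 hw
    obtain ⟨b, hb⟩ := Function.ne_iff.1 hψ₂
    have h5 := congrFun (congrFun h3 a) b
    simp only [vecMulVec_apply, Pi.smul_apply, Matrix.zero_apply, smul_eq_mul] at h5
    rcases mul_eq_zero.1 h5 with h6 | h6
    · exact ha h6
    · rcases mul_eq_zero.1 h6 with h7 | h7
      · exact hne h7
      · exact hb h7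
  · exact LL_of_rt hR

/-- **Uniqueness of the slot** (F2). -/
theorem LL.all (hk : 3 ≤ k) (hXi : HX i M) (hXr : HX r M) (hNr : NoK r M) (hg : g ∈ M) {w ψ : Fin k → F}
    (h0 : ψ ⬝ᵥ w = 0) (hw : w ≠ 0) (hψ : ψ ≠ 0) (hL : LL i r g (vecMulVec w ψ)) (A : Mk F k) : LL i r g A := by
  have hk' : 3 ≤ Fintype.card (Fin k) := by simpa using hk
  obtain ⟨y, hy⟩ := exists_dot_one hψ
  obtain ⟨η, hη, hηw, hηy⟩ := exists_kill_two (F := F) hk' w y
  obtain ⟨z₀, hz₀⟩ := exists_dot_one hη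
  -- z with η z = 1, ψ z = 0
  let z := z₀ - (ψ ⬝ᵥ z₀) • y
  have hηz : η ⬝ᵥ z = 1 := by rw [dotProduct_sub, dotProduct_smul, hηy, hz₀, smul_zero, sub_zero]
  have hψz : ψ ⬝ᵥ z = 0 := by rw [dotProduct_sub, dotProduct_smul, hy, smul_eq_mul, mul_one, sub_self]
  -- (1)
  have h1 : ∀ x : Fin k → F, ψ ⬝ᵥ x ≠ 0 → ∀ χ : Fin k → F, χ ⬝ᵥ w = 0 → χ ⬝ᵥ x = 0 → LL i r g (vecMulVec x χ) :=
    fun x hx χ hχw hχx => LL.rule hk hXi hXr hNr hg h0 hw hψ hL hχx hχw hx
  have hyη : LL i r g (vecMulVec y η) := h1 y (by rw [hy]; exact one_ne_zero) η hηw hηy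
  have hy0 : y ≠ 0 := by rintro rfl; rw [dotProduct_zero] at hy; exact zero_ne_one hy
  -- (2)
  have h2 : ∀ x : Fin k → F, η ⬝ᵥ x ≠ 0 → ∀ χ : Fin k → F, χ ⬝ᵥ y = 0 → χ ⬝ᵥ x = 0 → LL i r g (vecMulVec x χ) :=
    fun x hx χ hχw hχx => LL.rule hk hXi hXr hNr hg hηy hy0 hη hyη hχx hχw hx
  -- θ with θ w = 1, θ y = θ z = 0
  obtain ⟨θ₀, hθ₀⟩ := exists_dot_one hw
  have hwθ₀ : θ₀ ⬝ᵥ w = 1 := by rw [dotProduct_comm]; exact hθ₀
  let θ := θ₀ - (θ₀ ⬝ᵥ y) • ψ - (θ₀ ⬝ᵥ z) • η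
  have hθw : θ ⬝ᵥ w = 1 := by
    simp only [θ, sub_dotProduct, smul_dotProduct, h0, hηw, hwθ₀, smul_zero, sub_zero]
  have hθy : θ ⬝ᵥ y = 0 := by
    simp only [θ, sub_dotProduct, smul_dotProduct, hy, hηy, smul_eq_mul, mul_one, mul_zero, sub_zero, sub_self]
  have hθz : θ ⬝ᵥ z = 0 := by
    simp only [θ, sub_dotProduct, smul_dotProduct, hψz, hηz, smul_eq_mul, mul_one, mul_zero, sub_zero, sub_self]
  have hzθ : LL i r g (vecMulVec z θ) := h2 z (by rw [hηz]; exact one_ne_zero) θ hθy hθz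
  have hprod : ∀ {a b c d : Fin k → F}, LL i r g (vecMulVec a b) → LL i r g (vecMulVec c d) → b ⬝ᵥ c = 1 →
      LL i r g (vecMulVec a d) := by
    intro a b c d h h' hbc
    have := h.mul h'
    rwa [vecMulVec_mul_vecMulVec, hbc, one_smul] at this
  have hzψ : LL i r g (vecMulVec z ψ) := hprod hzθ hL hθw
  have hzη : LL i r g (vecMulVec z η) := hprod hzψ hyη hy
  -- closure in the first argument
  have hadd : ∀ {a b c : Fin k → F}, LL i r g (vecMulVec a c) → LL i r g (vecMulVec b c) →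
      LL i r g (vecMulVec (a + b) c) := by
    intro a b c h h'
    rw [add_vecMulVec]; exact h.add h'
  have hsm : ∀ {a c : Fin k → F} (s : F), LL i r g (vecMulVec a c) → LL i r g (vecMulVec (s • a) c) := by
    intro a c s h
    rw [smul_vecMulVec]; exact h.smul s
  have hxη : ∀ x : Fin k → F, LL i r g (vecMulVec x η) := by
    have h3 : ∀ x : Fin k → F, η ⬝ᵥ x = 0 → LL i r g (vecMulVec x η) := by
      intro x hx
      by_cases hψx : ψ ⬝ᵥ x = 0
      · have h4 : x = (x + y) + (-1 : F) • y := by rw [neg_one_smul]; abel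
        rw [h4]
        refine hadd (h1 _ ?_ η hηw ?_) (hsm _ hyη)
        · rw [dotProduct_add, hψx, hy, zero_add]; exact one_ne_zero
        · rw [dotProduct_add, hx, hηy, add_zero]
      · exact h1 x hψx η hηw hx
    intro x
    have h4 : x = (x - (η ⬝ᵥ x) • z) + (η ⬝ᵥ x) • z := by abel
    rw [h4]
    refine hadd (h3 _ ?_) (hsm _ hzη)
    rw [dotProduct_sub, dotProduct_smul, hηz, smul_eq_mul, mul_one, sub_self]
  -- all functionals vanishing on y
  have hfun : ∀ {u χ : Fin k → F}, η ⬝ᵥ u ≠ 0 → LL i r g (vecMulVec u χ) → ∀ x : Fin k → F, LL i r g (vecMulVec x χ) := by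
    intro u χ hu h x
    have h3 := (hxη x).mul h
    rw [vecMulVec_mul_vecMulVec, vecMulVec_smul] at h3
    have h4 := h3.smul (η ⬝ᵥ u)⁻¹
    rwa [smul_smul, inv_mul_cancel₀ hu, one_smul] at h4
  have hvy : ∀ χ : Fin k → F, χ ⬝ᵥ y = 0 → ∀ x : Fin k → F, LL i r g (vecMulVec x χ) := by
    intro χ hχ x
    by_cases hpar : ∃ c : F, χ = c • η
    · obtain ⟨c, rfl⟩ := hpar
      rw [vecMulVec_smul]; exact (hxη x).smul c
    · -- u with χ u = 0, η u = 1
      have hpar' : ¬ ∃ c : F, η = c • χ := by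
        rintro ⟨c, hc⟩
        have hc0 : c ≠ 0 := by rintro rfl; exact hη (by rw [hc, zero_smul])
        exact hpar ⟨c⁻¹, by rw [hc, smul_smul, inv_mul_cancel₀ hc0, one_smul]⟩
      obtain ⟨u, hu1, hu2⟩ := exists_dot_pair hpar'
      rw [dotProduct_comm] at hu1 hu2
      exact hfun (u := u) (by rw [hu1]; exact one_ne_zero) (h2 u (by rw [hu1]; exact one_ne_zero) χ hχ hu2) x
  have hall : ∀ χ x : Fin k → F, LL i r g (vecMulVec x χ) := by
    intro χ x
    have h3 : χ = (χ - (χ ⬝ᵥ y) • ψ) + (χ ⬝ᵥ y) • ψ := by abel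
    rw [h3, vecMulVec_add]
    refine (hvy _ ?_ x).add ?_
    · rw [sub_dotProduct, smul_dotProduct, hy, smul_eq_mul, mul_one, sub_self]
    · rw [vecMulVec_smul]
      exact (hfun (u := z) (by rw [hηz]; exact one_ne_zero) hzψ x).smul _
  have h3 : A = ∑ b : Fin k, vecMulVec (fun a => A a b) (Pi.single b 1) := by
    ext a b
    rw [Matrix.sum_apply, Finset.sum_eq_single b]
    · simp [vecMulVec_apply]
    · intro c _ hc; simp [vecMulVec_apply, hc.symm]
    · intro h; exact absurd (Finset.mem_univ _) h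
  rw [h3]
  exact LL.sum _ _ (fun b _ => hall _ _)

end Cfsg.Agent.H205.C7
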