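import Cfsg.Agent.H205.C7.Unique
import Mathlib.LinearAlgebra.GeneralLinearGroup.AlgEquiv

/-!
# The group permuting the slot algebras

`W F k t`: the elements of `GL` permuting the slot algebras; it equals `tensorWreathStandard`.
-/

set_option autoImplicit false
set_option linter.unusedSectionVars false

namespace Cfsg.Agent.H205.C7

open Matrix Cfsg.Agent.H889 Cfsg.Agent.H872 Cfsg.Agent.H873 Cfsg.Geo
open scoped Kronecker MatrixGroups

variable {F : Type*} [Field F] {k t : ℕ}

/-- Skolem–Noether for matrices. -/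
theorem inner_of_algHom [NeZero k] (θ : Mk F k →ₐ[F] Mk F k) :
    ∃ B : GL (Fin k) F, ∀ A : Mk F k, θ A = (B : Mk F k) * A * ((B⁻¹ : GL (Fin k) F) : Mk F k) := by
  have hinj : Function.Injective θ := θ.toRingHom.injective
  have hbij : Function.Bijective θ :=
    ⟨hinj, LinearMap.surjective_of_injective (f := θ.toLinearMap) hinj⟩
  let e : Mk F k ≃ₐ[F] Mk F k := AlgEquiv.ofBijective θ hbij
  let τ : Mk F k ≃ₐ[F] Module.End F (Fin k → F) := Matrix.toLinAlgEquiv'
  obtain ⟨T, hT⟩ := (τ.symm.trans (e.trans τ)).eq_linearEquivConjAlgEquiv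
  have h1 : τ (LinearMap.toMatrixAlgEquiv' (T : (Fin k → F) →ₗ[F] (Fin k → F))) = T := by
    exact Matrix.toLinAlgEquiv'_toMatrixAlgEquiv' _
  have h2 : τ (LinearMap.toMatrixAlgEquiv' (T.symm : (Fin k → F) →ₗ[F] (Fin k → F))) = T.symm := by
    exact Matrix.toLinAlgEquiv'_toMatrixAlgEquiv' _
  refine ⟨⟨LinearMap.toMatrixAlgEquiv' (T : (Fin k → F) →ₗ[F] (Fin k → F)),
    LinearMap.toMatrixAlgEquiv' (T.symm : (Fin k → F) →ₗ[F] (Fin k → F)), ?_, ?_⟩, ?_⟩
  · apply τ.injective
    rw [map_mul, h1, h2, map_one]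
    exact T.comp_symm
  · apply τ.injective
    rw [map_mul, h1, h2, map_one]
    exact T.symm_comp
  · intro A
    apply τ.injective
    have h3 := DFunLike.congr_fun hT (τ A)
    have h4 : (τ.symm.trans (e.trans τ)) (τ A) = τ (θ A) := by
      simp [e]
    rw [h4] at h3
    rw [h3, map_mul, map_mul, LinearEquiv.conjAlgEquiv_apply]
    show _ = τ (LinearMap.toMatrixAlgEquiv' (T : (Fin k → F) →ₗ[F] (Fin k → F))) * τ A *
      τ (LinearMap.toMatrixAlgEquiv' (T.symm : (Fin k → F) →ₗ[F] (Fin k → F)))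
    rw [h1, h2]
    rfl

theorem slL_cancel {r : Fin t} {g : GLV F k t} [NeZero k] {B B' : Mk F k}
    (h : sl r B * (g : Ma F k t) = sl r B' * (g : Ma F k t)) : B = B' := by
  apply sl_injective (k := k) r
  have := congrArg (fun z => z * ((g⁻¹ : GLV F k t) : Ma F k t)) h
  simpa [mul_assoc] using this

theorem exists_inner_of_LL [NeZero k] {i r : Fin t} {g : GLV F k t} (h : ∀ A : Mk F k, LL i r g A) :
    ∃ B : GL (Fin k) F, ∀ A : Mk F k,
      (g : Ma F k t) * sl i A = sl r ((B : Mk F k) * A * ((B⁻¹ : GL (Fin k) F) : Mk F k)) * (g : Ma F k t) := by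
  choose f hf using h
  let θ : Mk F k →ₐ[F] Mk F k :=
    { toFun := f
      map_one' := by
        apply slL_cancel (r := r) (g := g)
        rw [← hf, map_one, map_one, mul_one, one_mul]
      map_mul' := fun A A' => by
        apply slL_cancel (r := r) (g := g)
        rw [← hf, map_mul, map_mul, ← mul_assoc, hf, mul_assoc, hf, mul_assoc]
      map_zero' := by
        apply slL_cancel (r := r) (g := g)
        rw [← hf, map_zero, map_zero, mul_zero, zero_mul]
      map_add' := fun A A' => by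
        apply slL_cancel (r := r) (g := g)
        rw [← hf, map_add, map_add, mul_add, add_mul, hf, hf]
      commutes' := fun c => by
        apply slL_cancel (r := r) (g := g)
        rw [← hf, AlgHom.commutes, AlgHom.commutes, Algebra.commutes] }
  obtain ⟨B, hB⟩ := inner_of_algHom θ
  refine ⟨B, fun A => ?_⟩
  rw [hf, ← hB]
  rfl

/-- `g` permutes the slots by `σ`, acting by conjugation by `B i` on slot `i`. -/
def Mo (g : GLV F k t) (σ : Equiv.Perm (Fin t)) (B : Fin t → GL (Fin k) F) : Prop :=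
  ∀ i (A : Mk F k), (g : Ma F k t) * sl i A =
    sl (σ i) ((B i : Mk F k) * A * (((B i)⁻¹ : GL (Fin k) F) : Mk F k)) * (g : Ma F k t)

theorem Mo.mul {g h : GLV F k t} {σ τ : Equiv.Perm (Fin t)} {B C : Fin t → GL (Fin k) F} (hg : Mo g σ B)
    (hh : Mo h τ C) : Mo (g * h) (σ * τ) (fun i => B (τ i) * C i) := by
  intro i A
  show _ = sl (σ (τ i)) (((B (τ i) * C i : GL (Fin k) F) : Mk F k) * A * (((B (τ i) * C i)⁻¹ : GL (Fin k) F) : Mk F k)) * _
  rw [Units.val_mul, mul_assoc, hh, ← mul_assoc, hg, mul_assoc, _root_.mul_inv_rev, Units.val_mul, Units.val_mul]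
  simp only [mul_assoc]

theorem Mo.one : Mo (1 : GLV F k t) 1 (fun _ => 1) := by
  intro i A
  simp

theorem Mo.inv {g : GLV F k t} {σ : Equiv.Perm (Fin t)} {B : Fin t → GL (Fin k) F} (hg : Mo g σ B) :
    Mo g⁻¹ σ⁻¹ (fun i => (B (σ⁻¹ i))⁻¹) := by
  intro i A
  have h1 := hg (σ⁻¹ i) ((((B (σ⁻¹ i))⁻¹ : GL (Fin k) F) : Mk F k) * A * (B (σ⁻¹ i) : Mk F k))
  rw [perm_apply_inv_self'] at h1
  have h2 : (B (σ⁻¹ i) : Mk F k) * ((((B (σ⁻¹ i))⁻¹ : GL (Fin k) F) : Mk F k) * A * (B (σ⁻¹ i) : Mk F k)) *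
      (((B (σ⁻¹ i))⁻¹ : GL (Fin k) F) : Mk F k) = A := by
    simp [mul_assoc]
  rw [h2] at h1
  rw [inv_inv]
  have h3 := congrArg (fun z => ((g⁻¹ : GLV F k t) : Ma F k t) * z * ((g⁻¹ : GLV F k t) : Ma F k t)) h1
  simp only [mul_assoc, Units.mul_inv, mul_one, Units.inv_mul_cancel_left] at h3
  rw [← h3]
  simp only [mul_assoc]
where
  perm_apply_inv_self' {σ : Equiv.Perm (Fin t)} {i : Fin t} : σ (σ⁻¹ i) = i := by simp

/-- The group permuting the slot algebras. -/
def W (F : Type*) [Field F] (k t : ℕ) : Subgroup (GLV F k t) where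
  carrier := {g | ∃ σ B, Mo g σ B}
  one_mem' := ⟨_, _, Mo.one⟩
  mul_mem' := by
    rintro g h ⟨σ, B, hg⟩ ⟨τ, C, hh⟩
    exact ⟨_, _, hg.mul hh⟩
  inv_mem' := by
    rintro g ⟨σ, B, hg⟩
    exact ⟨_, _, hg.inv⟩

theorem mem_W {g : GLV F k t} : g ∈ W F k t ↔ ∃ σ B, Mo g σ B := Iff.rfl

theorem mem_W_of_LL (hk : 2 ≤ k) {g : GLV F k t} (h : ∀ i, ∃ j, ∀ A : Mk F k, LL i j g A) : g ∈ W F k t := by
  have : NeZero k := ⟨by omega⟩
  choose σ hσ using h
  choose B hB using fun i => exists_inner_of_LL (hσ i)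
  have hinj : Function.Injective σ := by
    intro i j hij
    by_contra hne
    -- all matrices commute
    have hcomm : ∀ A A' : Mk F k, A * A' = A' * A := by
      intro A A'
      have h1 := hB i (((B i)⁻¹ : GL (Fin k) F) * A * (B i : Mk F k))
      have h2 := hB j (((B j)⁻¹ : GL (Fin k) F) * A' * (B j : Mk F k))
      have h3 : ∀ (i : Fin t) (A : Mk F k), (B i : Mk F k) * ((((B i)⁻¹ : GL (Fin k) F) : Mk F k) * A * (B i : Mk F k)) *
          (((B i)⁻¹ : GL (Fin k) F) : Mk F k) = A := by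
        intro i A; simp [mul_assoc]
      rw [h3] at h1 h2
      rw [← hij] at h2
      apply slL_cancel (r := σ i) (g := g)
      rw [map_mul, map_mul, mul_assoc, ← h2, ← mul_assoc, ← h1, mul_assoc, (sl_comm hne _ _).eq, ← mul_assoc, h2,
        mul_assoc, h1, ← mul_assoc]
    have h1 := hcomm (Matrix.single ⟨0, by omega⟩ ⟨1, by omega⟩ 1) (Matrix.single ⟨1, by omega⟩ ⟨0, by omega⟩ 1)
    rw [Matrix.single_mul_single_same, Matrix.single_mul_single_same] at h1
    have h2 := congrFun (congrFun h1 ⟨0, by omega⟩) ⟨0, by omega⟩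
    rw [Matrix.single_apply_same, Matrix.single_apply_of_ne] at h2
    · simp at h2
    · simp
  exact ⟨Equiv.ofBijective σ (Finite.injective_iff_bijective.1 hinj), B, hB⟩

/-! ### `W = tensorWreathStandard` -/

theorem Mo_pmGL (gs : Fin t → GL (Fin k) F) : Mo (pmGL gs) 1 gs := by
  intro i A
  rw [coe_pmGL, sl_eq, sl_eq, slot, pm_mul, Equiv.Perm.one_apply, slot, pm_mul]
  congr 1
  funext j
  by_cases hj : j = i
  · subst hj
    rw [Function.update_self, Function.update_self, mul_assoc, ← Units.val_mul, inv_mul_cancel, Units.val_one, mul_one]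
  · rw [Function.update_of_ne hj, Function.update_of_ne hj, mul_one, one_mul]

theorem Mo_perm {g : GLV F k t} {σ : Equiv.Perm (Fin t)}
    (hσ : ∀ a b, (g : Ma F k t) a b = if b = a ∘ σ then 1 else 0) : Mo g σ (fun _ => 1) := by
  intro i A
  rw [inv_one, Units.val_one, one_mul, mul_one]
  ext a b
  rw [Matrix.mul_apply, Matrix.mul_apply, Finset.sum_eq_single (a ∘ σ), Finset.sum_eq_single (b ∘ ⇑σ.symm)]
  · rw [hσ, if_pos rfl, one_mul, hσ, if_pos, mul_one, sl_apply, sl_apply]
    · refine if_congr ?_ ?_ rfl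
      · constructor
        · intro h l hl
          have h1 : σ.symm l ≠ i := by rintro rfl; simp at hl
          have := h (σ.symm l) h1
          simpa using this
        · intro h l hl
          have h1 : σ l ≠ σ i := fun h => hl (σ.injective h)
          have := h (σ l) h1
          simpa using this
      · simp
    · funext l; simp
  · intro c _ hc
    rw [hσ, if_neg, mul_zero]
    rintro rfl
    apply hc
    funext l; simp
  · intro h; exact absurd (Finset.mem_univ _) h
  · intro c _ hc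
    rw [hσ, if_neg hc, zero_mul]
  · intro h; exact absurd (Finset.mem_univ _) h

theorem wreath_le_W : tensorWreathStandard k t F ≤ W F k t := by
  unfold tensorWreathStandard
  rw [Subgroup.closure_le]
  rintro g (⟨gs, hgs⟩ | ⟨σ, hσ⟩)
  · have : g = pmGL gs := by
      apply Units.ext
      ext a b
      exact hgs a b
    rw [this]
    exact ⟨_, _, Mo_pmGL gs⟩
  · exact ⟨_, _, Mo_perm hσ⟩

/-- The permutation matrix of `σ`. -/
def permG (F : Type*) [Field F] (k : ℕ) {t : ℕ} (σ : Equiv.Perm (Fin t)) : GLV F k t where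
  val := Matrix.of fun a b => if b = a ∘ σ then 1 else 0
  inv := Matrix.of fun a b => if b = a ∘ ⇑σ.symm then 1 else 0
  val_inv := by
    ext a b
    rw [Matrix.mul_apply, Finset.sum_eq_single (a ∘ σ)]
    · rw [Matrix.of_apply, Matrix.of_apply, if_pos rfl, one_mul, Matrix.one_apply]
      have : (a ∘ ⇑σ) ∘ ⇑σ.symm = a := by funext l; simp
      rw [this]
      exact if_congr eq_comm rfl rfl
    · intro c _ hc; rw [Matrix.of_apply, if_neg hc, zero_mul]
    · intro h; exact absurd (Finset.mem_univ _) h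
  inv_val := by
    ext a b
    rw [Matrix.mul_apply, Finset.sum_eq_single (a ∘ ⇑σ.symm)]
    · rw [Matrix.of_apply, Matrix.of_apply, if_pos rfl, one_mul, Matrix.one_apply]
      have : (a ∘ ⇑σ.symm) ∘ ⇑σ = a := by funext l; simp
      rw [this]
      exact if_congr eq_comm rfl rfl
    · intro c _ hc; rw [Matrix.of_apply, if_neg hc, zero_mul]
    · intro h; exact absurd (Finset.mem_univ _) h

theorem permG_mem (σ : Equiv.Perm (Fin t)) : permG F k σ ∈ tensorWreathStandard k t F :=
  Subgroup.subset_closure (Or.inr ⟨σ, fun _ _ => rfl⟩)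

theorem Mo_permG (σ : Equiv.Perm (Fin t)) : Mo (permG F k σ) σ (fun _ => 1) := Mo_perm (fun _ _ => rfl)

theorem W_le_wreath [NeZero k] [NeZero t] : W F k t ≤ tensorWreathStandard k t F := by
  rintro g ⟨σ, B, hg⟩
  have h1 : Mo (pmGL (fun i => B (σ.symm i)) * permG F k σ) σ B := by
    have := (Mo_pmGL (fun i => B (σ.symm i))).mul (Mo_permG (F := F) (k := k) σ)
    simpa using this
  have h2 := hg.mul h1.inv
  set x : GLV F k t := g * (pmGL (fun i => B (σ.symm i)) * permG F k σ)⁻¹ with hx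
  have h3 : ∀ i (A : Mk F k), Commute (x : Ma F k t) (sl i A) := by
    intro i A
    have := h2 i A
    simp only [mul_inv_cancel, Equiv.Perm.one_apply, inv_one, Units.val_one, one_mul, mul_one] at this
    exact this
  obtain ⟨c, hc⟩ := exists_scalar_of_comm h3
  have : Nonempty (Fin t → Fin k) := ⟨fun _ => 0⟩
  have hc0 := units_scalar_mul hc
  have h4 : x = pmGL (Function.update (fun _ => (1 : GL (Fin k) F)) 0 (Units.mk0 c hc0 • 1)) := by
    apply Units.ext
    rw [hc, coe_pmGL]
    have : (fun i : Fin t => ((Function.update (fun _ : Fin t => (1 : GL (Fin k) F)) 0 (Units.mk0 c hc0 • 1) i :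
        GL (Fin k) F) : Mk F k)) = Function.update (fun _ : Fin t => (1 : Mk F k)) 0 (c • 1) := by
      funext j
      by_cases hj : j = 0
      · subst hj; rw [Function.update_self, Function.update_self]; rfl
      · rw [Function.update_of_ne hj, Function.update_of_ne hj, Units.val_one]
    exact (slot_smul_one 0 c).symm.trans (congrArg pm this.symm)
  have h5 : g = x * (pmGL (fun i => B (σ.symm i)) * permG F k σ) := by rw [hx]; group
  rw [h5]
  refine Subgroup.mul_mem _ ?_ (Subgroup.mul_mem _ (pmGL_mem _) (permG_mem _))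
  rw [h4]; exact pmGL_mem _

theorem W_eq_wreath [NeZero k] [NeZero t] : W F k t = tensorWreathStandard k t F :=
  le_antisymm W_le_wreath wreath_le_W

end Cfsg.Agent.H205.C7
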